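import Mathlib

/-!
# Neighbourhoods from generisations in a locally Noetherian scheme
-/

set_option autoImplicit false

universe u

open AlgebraicGeometry TopologicalSpace

namespace Groth.Agent.GeomFib

theorem exists_open_inter_subset {α : Type u} [TopologicalSpace α] [NoetherianSpace α] [QuasiSober α]
    (E : Set α) (x : α) (h : ∀ η, η ⤳ x → ∃ O : Set α, IsOpen O ∧ η ∈ O ∧ O ∩ closure {η} ⊆ E)
    (C : Closeds α) : ∃ O : Set α, IsOpen O ∧ x ∈ O ∧ O ∩ (C : Set α) ⊆ E := by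
  induction C using WellFoundedLT.induction with
  | _ C ih =>
    by_cases hxC : x ∈ (C : Set α)
    swap
    · exact ⟨(C : Set α)ᶜ, C.isClosed.isOpen_compl, hxC, fun z hz ↦ absurd hz.2 hz.1⟩
    by_cases hirr : IsPreirreducible (C : Set α)
    · obtain ⟨η, hη⟩ := QuasiSober.sober ⟨⟨x, hxC⟩, hirr⟩ C.isClosed
      have hηx : η ⤳ x := hη.specializes hxC
      obtain ⟨O, hO, hηO, hsub⟩ := h η hηx
      let C' : Closeds α := ⟨(C : Set α) ∩ Oᶜ, C.isClosed.inter hO.isClosed_compl⟩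
      obtain ⟨O', hO', hxO', hsub'⟩ := ih C' (lt_of_le_of_ne Set.inter_subset_left fun e ↦
        ((SetLike.ext_iff.mp e η).mpr hη.mem).2 hηO)
      refine ⟨O', hO', hxO', fun z hz ↦ ?_⟩
      by_cases hzO : z ∈ O
      · exact hsub ⟨hzO, hη.def.symm ▸ hz.2⟩
      · exact hsub' ⟨hz.1, hz.2, hzO⟩
    · rw [isPreirreducible_iff_isClosed_union_isClosed] at hirr
      push Not at hirr
      obtain ⟨Z₁, Z₂, hZ₁, hZ₂, hsub, hn₁, hn₂⟩ := hirr
      let C₁ : Closeds α := ⟨(C : Set α) ∩ Z₁, C.isClosed.inter hZ₁⟩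
      let C₂ : Closeds α := ⟨(C : Set α) ∩ Z₂, C.isClosed.inter hZ₂⟩
      obtain ⟨O₁, hO₁, hx₁, hs₁⟩ := ih C₁ (lt_of_le_of_ne Set.inter_subset_left fun e ↦
        hn₁ fun z hz ↦ ((SetLike.ext_iff.mp e z).mpr hz).2)
      obtain ⟨O₂, hO₂, hx₂, hs₂⟩ := ih C₂ (lt_of_le_of_ne Set.inter_subset_left fun e ↦
        hn₂ fun z hz ↦ ((SetLike.ext_iff.mp e z).mpr hz).2)
      refine ⟨O₁ ∩ O₂, hO₁.inter hO₂, ⟨hx₁, hx₂⟩, fun z hz ↦ ?_⟩
      rcases hsub hz.2 with hz' | hz'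
      · exact hs₁ ⟨hz.1.1, hz.2, hz'⟩
      · exact hs₂ ⟨hz.1.2, hz.2, hz'⟩

/-- A set containing a neighbourhood, within its closure, of every generisation of a point is a
neighbourhood of the point. -/
theorem mem_nhds_of_forall_generization {X : Scheme.{u}} [IsLocallyNoetherian X] {E : Set X} {x : X}
    (h : ∀ η, η ⤳ x → ∃ O : X.Opens, η ∈ O ∧ ∀ z ∈ O, η ⤳ z → z ∈ E) : E ∈ nhds x := by
  obtain ⟨W, hW, hxW, -⟩ := exists_isAffineOpen_mem_and_subset (X := X) (U := ⊤) (x := x) trivial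
  have : IsNoetherianRing Γ(X, W) := IsLocallyNoetherian.component_noetherian ⟨W, hW⟩
  obtain ⟨O, hO, hwO, hsub⟩ := exists_open_inter_subset (hW.fromSpec ⁻¹' E) (hW.primeIdealOf ⟨x, hxW⟩)
    (fun η hη ↦ by
      obtain ⟨U, hηU, hU⟩ := h (hW.fromSpec η) (by
        have h1 := hη.map hW.fromSpec.continuous
        rw [hW.fromSpec_primeIdealOf] at h1
        exact h1)
      exact ⟨hW.fromSpec ⁻¹' U, U.2.preimage hW.fromSpec.continuous, hηU,
        fun z hz ↦ hU _ hz.1 ((specializes_iff_mem_closure.mpr hz.2).map hW.fromSpec.continuous)⟩)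
    ⊤
  have h2 := hW.fromSpec.isOpenEmbedding.isOpenMap.image_mem_nhds (hO.mem_nhds hwO)
  rw [hW.fromSpec_primeIdealOf] at h2
  refine Filter.mem_of_superset h2 ?_
  rintro _ ⟨z, hz, rfl⟩
  exact hsub ⟨hz, trivial⟩

end Groth.Agent.GeomFib
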