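import Groth.Agent.GeomFib.NearPoint
import Groth.Agent.ConsEngine.Points

/-!
# Geometric irreducibility and connectedness through the counts; constructibility
-/

set_option autoImplicit false

universe u

open CategoryTheory AlgebraicGeometry Limits TopologicalSpace

namespace Groth.Agent.GeomFib

theorem irreducibleSpace_iff_encard {α : Type u} [TopologicalSpace α] :
    IrreducibleSpace α ↔ (irreducibleComponents α).encard = 1 := by
  constructor
  · intro h
    refine Set.encard_eq_one.mpr ⟨Set.univ, Set.eq_singleton_iff_unique_mem.mpr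
      ⟨⟨IrreducibleSpace.isIrreducible_univ α, fun _ _ _ ↦ Set.subset_univ _⟩,
        fun Z hZ ↦ (Set.subset_univ _).antisymm (hZ.2 (IrreducibleSpace.isIrreducible_univ α) (Set.subset_univ _))⟩⟩
  · intro h
    obtain ⟨Z, hZ⟩ := Set.encard_eq_one.mp h
    have hu : Z = Set.univ := Set.eq_univ_of_forall fun x ↦ by
      have hx : irreducibleComponent x ∈ irreducibleComponents α :=
        irreducibleComponent_mem_irreducibleComponents x
      rw [hZ, Set.mem_singleton_iff] at hx
      exact hx ▸ mem_irreducibleComponent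
    have hZirr : IsIrreducible Z := (hZ ▸ Set.mem_singleton Z : Z ∈ irreducibleComponents α).1
    rw [irreducibleSpace_def]
    show IsIrreducible (Set.univ : Set α)
    exact hu ▸ hZirr

theorem connectedSpace_iff_card {α : Type u} [TopologicalSpace α] :
    ConnectedSpace α ↔ ENat.card (_root_.ConnectedComponents α) = 1 := by
  constructor
  · intro h
    have : Subsingleton (_root_.ConnectedComponents α) := ⟨fun c d ↦ ?_⟩
    · exact ENat.card_eq_one_iff_unique.mpr ⟨uniqueOfSubsingleton (_root_.ConnectedComponents.mk (Classical.arbitrary α))⟩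
    obtain ⟨a, rfl⟩ := _root_.ConnectedComponents.surjective_coe c
    obtain ⟨b, rfl⟩ := _root_.ConnectedComponents.surjective_coe d
    exact _root_.ConnectedComponents.coe_eq_coe'.mpr
      (by rw [PreconnectedSpace.connectedComponent_eq_univ]; trivial)
  · intro h
    obtain ⟨hu⟩ := ENat.card_eq_one_iff_unique.mp h
    obtain ⟨a, -⟩ := _root_.ConnectedComponents.surjective_coe hu.default
    have hp : PreconnectedSpace α := preconnectedSpace_iff_connectedComponent.mpr fun x ↦
      Set.eq_univ_of_forall fun y ↦ _root_.ConnectedComponents.coe_eq_coe'.mp (Subsingleton.elim _ _)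
    exact { toNonempty := ⟨a⟩ }

variable {X Y : Scheme.{u}} (f : X ⟶ Y)

theorem fromSpecResidueField_geomPt (y : Y) :
    geomPt y (IsLocalRing.closedPoint _) = y := by
  show Y.fromSpecResidueField y _ = y
  exact Scheme.fromSpecResidueField_apply _ _

/-- A fibre is geometrically irreducible exactly when its geometric count is one. -/
theorem geometricallyIrreducible_fiber_iff (y : Y) :
    GeometricallyIrreducible (f.fiberToSpecResidueField y) ↔ MoreMor.nGeomIrredComp f y = 1 := by
  rw [(nGeom_eq f (geomPt y) y (fromSpecResidueField_geomPt y)).1]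
  constructor
  · intro h
    have h' := h.geometrically_irreducibleSpace
      (Spec.map (CommRingCat.ofHom (algebraMap (Y.residueField y) (AlgebraicClosure (Y.residueField y)))))
      (pullback.fst _ _) (pullback.snd _ _) (.of_hasPullback _ _)
    rw [← irreducibleSpace_iff_encard]
    exact (pullbackLeftPullbackSndIso f (Y.fromSpecResidueField y) (Spec.map (CommRingCat.ofHom
      (algebraMap (Y.residueField y) (AlgebraicClosure (Y.residueField y)))))).hom.homeomorph.irreducibleSpace_iff.mp h'
  · intro h
    rw [GeometricallyIrreducible.eq_geometrically]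
    intro K _ v Z fst snd hZ
    obtain ⟨q, -, hq⟩ := exists_bc f (v ≫ Y.fromSpecResidueField y)
      (Spec.map (CommRingCat.ofHom (algebraMap K (AlgebraicClosure K))) ≫ v ≫ Y.fromSpecResidueField y) rfl
    have hy : (Spec.map (CommRingCat.ofHom (algebraMap K (AlgebraicClosure K))) ≫ v ≫ Y.fromSpecResidueField y)
        (IsLocalRing.closedPoint _) = y := by
      rw [Scheme.Hom.comp_apply, Scheme.Hom.comp_apply]; exact Scheme.fromSpecResidueField_apply _ _
    have hL := irreducibleSpace_iff_encard.mpr
      ((counts_eq_geomPt f _ y hy).1.trans h)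
    have hK := Function.Surjective.irreducibleSpace q.continuous (bc_props hq).1
    exact ((hZ.isoPullback ≪≫ pullbackLeftPullbackSndIso f (Y.fromSpecResidueField y) v).hom.homeomorph.irreducibleSpace_iff).mpr hK

/-- A fibre is geometrically connected exactly when its geometric count is one. -/
theorem geometricallyConnected_fiber_iff (y : Y) :
    GeometricallyConnected (f.fiberToSpecResidueField y) ↔ MoreMor.nGeomConnComp f y = 1 := by
  rw [(nGeom_eq f (geomPt y) y (fromSpecResidueField_geomPt y)).2]
  constructor
  · intro h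
    have h' := h.geometrically_connectedSpace
      (Spec.map (CommRingCat.ofHom (algebraMap (Y.residueField y) (AlgebraicClosure (Y.residueField y)))))
      (pullback.fst _ _) (pullback.snd _ _) (.of_hasPullback _ _)
    rw [← connectedSpace_iff_card]
    exact (pullbackLeftPullbackSndIso f (Y.fromSpecResidueField y) (Spec.map (CommRingCat.ofHom
      (algebraMap (Y.residueField y) (AlgebraicClosure (Y.residueField y)))))).hom.homeomorph.connectedSpace_iff.mp h'
  · intro h
    rw [GeometricallyConnected.eq_geometrically]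
    intro K _ v Z fst snd hZ
    obtain ⟨q, -, hq⟩ := exists_bc f (v ≫ Y.fromSpecResidueField y)
      (Spec.map (CommRingCat.ofHom (algebraMap K (AlgebraicClosure K))) ≫ v ≫ Y.fromSpecResidueField y) rfl
    have hy : (Spec.map (CommRingCat.ofHom (algebraMap K (AlgebraicClosure K))) ≫ v ≫ Y.fromSpecResidueField y)
        (IsLocalRing.closedPoint _) = y := by
      rw [Scheme.Hom.comp_apply, Scheme.Hom.comp_apply]; exact Scheme.fromSpecResidueField_apply _ _
    have hL := connectedSpace_iff_card.mpr ((counts_eq_geomPt f _ y hy).2.trans h)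
    have hK := (bc_props hq).1.connectedSpace q.continuous
    exact ((hZ.isoPullback ≪≫ pullbackLeftPullbackSndIso f (Y.fromSpecResidueField y) v).hom.homeomorph.connectedSpace_iff).mpr hK

/-- Geometric irreducibility and connectedness of the generic fibre extend to a neighbourhood. -/
theorem exists_open_of_generic [IrreducibleSpace Y] [LocallyOfFiniteType f] [QuasiCompact f] :
    ∃ V : Y.Opens, (V : Set Y).Nonempty ∧ ∀ y ∈ V,
      MoreMor.nGeomIrredComp f y = MoreMor.nGeomIrredComp f (genericPoint Y) ∧
        MoreMor.nGeomConnComp f y = MoreMor.nGeomConnComp f (genericPoint Y) := by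
  obtain ⟨O, hO, h⟩ := exists_open_nGeom f (genericPoint Y)
  exact ⟨O, ⟨_, hO⟩, fun y hy ↦ h y hy (genericPoint_specializes y)⟩

theorem isLocallyConstructible_nGeom [LocallyOfFinitePresentation f] [QuasiCompact f] [QuasiSeparated f]
    (N : ∀ {X Y : Scheme.{u}}, (X ⟶ Y) → Y → ℕ∞)
    (hbc : ∀ {X Y X' Y' : Scheme.{u}} {f : X ⟶ Y} {f' : X' ⟶ Y'} {g' : X' ⟶ X} {g : Y' ⟶ Y},
      IsPullback g' f' f g → ∀ y', N f' y' = N f (g y'))
    (hnear : ∀ {X Y : Scheme.{u}} (f : X ⟶ Y) [LocallyOfFiniteType f] [QuasiCompact f] (y : Y),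
      ∃ O : Y.Opens, y ∈ O ∧ ∀ y' ∈ O, y ⤳ y' → N f y' = N f y)
    (n : ℕ∞) : Topology.IsLocallyConstructible {y : Y | N f y = n} := by
  have hP : ConsProp.IsCons.{u} (fun Z T g => ∀ t : T, N g t = n) := by
    refine ⟨?_, fun Z S u _ _ _ _ ↦ ?_⟩
    · intro Z Z' T T' g g' e h _ _ _ _ _ _ hsq
      refine ⟨fun hg t' ↦ (hbc hsq t').trans (hg _), fun hg t ↦ ?_⟩
      obtain ⟨t'⟩ : Nonempty T' := inferInstance
      rw [Subsingleton.elim t (h t'), ← hbc hsq t']
      exact hg t'
    · have hloc : ConsProp.locus (fun Z T g => ∀ t : T, N g t = n) u = {s | N u s = n} := by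
        ext s
        show (∀ t, N (u.fiberToSpecResidueField s) t = n) ↔ N u s = n
        have h1 : ∀ t, N (u.fiberToSpecResidueField s) t = N u s := fun t ↦ by
          rw [hbc (ConsEngine.isPullback_fiber u s) t, Scheme.fromSpecResidueField_apply]
        exact ⟨fun h ↦ (h1 (IsLocalRing.closedPoint _)).symm.trans (h _), fun h t ↦ (h1 t).trans h⟩
      rw [hloc]
      obtain ⟨O, hO, h⟩ := hnear u (genericPoint S)
      have h' : ∀ s ∈ O, N u s = N u (genericPoint S) := fun s hs ↦ h s hs (genericPoint_specializes s)
      by_cases hn : N u (genericPoint S) = n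
      · exact .inl ⟨_, mem_interior.mpr ⟨O, fun s hs ↦ (h' s hs).trans hn, O.2, hO⟩⟩
      · exact .inr ⟨_, mem_interior.mpr ⟨O, fun s hs e ↦ hn ((h' s hs).symm.trans e), O.2, hO⟩⟩
  have h := ConsEngine.isLocallyConstructible_locus hP f
  convert h using 1
  ext s
  show N f s = n ↔ ∀ t, N (f.fiberToSpecResidueField s) t = n
  have h1 : ∀ t, N (f.fiberToSpecResidueField s) t = N f s := fun t ↦ by
    rw [hbc (ConsEngine.isPullback_fiber f s) t, Scheme.fromSpecResidueField_apply]
  exact ⟨fun h t ↦ (h1 t).trans h, fun h ↦ (h1 (IsLocalRing.closedPoint _)).symm.trans (h _)⟩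

end Groth.Agent.GeomFib
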