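import Groth.Agent.GeomConn.Comp
import Groth.Agent.GeomConn.Normal
import Mathlib
import Groth.Prelude.Def_MoreMor

/-!
# Counting components of geometric fibres: independence of the algebraically closed field
-/

set_option autoImplicit false
set_option linter.style.haveILetI false

universe u

open CategoryTheory AlgebraicGeometry Limits

namespace Groth.Agent.GeomFib

/-- A surjection with irreducible preimages of irreducible sets preserves irreducible components. -/
theorem encard_irreducibleComponents_eq {α β : Type u} [TopologicalSpace α] [TopologicalSpace β]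
    {q : α → β} (hc : Continuous q) (hs : Function.Surjective q)
    (hirr : ∀ Z : Set β, IsIrreducible Z → IsIrreducible (q ⁻¹' Z)) :
    (irreducibleComponents α).encard = (irreducibleComponents β).encard := by
  have h1 : ∀ Z ∈ irreducibleComponents β, q ⁻¹' Z ∈ irreducibleComponents α := fun Z hZ ↦
    ⟨hirr Z hZ.1, fun T hT hle w hw ↦ hZ.2 (hT.image q hc.continuousOn)
      (fun z hz ↦ by obtain ⟨v, rfl⟩ := hs z; exact ⟨v, hle hz, rfl⟩) ⟨w, hw, rfl⟩⟩
  have h2 : irreducibleComponents α = (q ⁻¹' ·) '' irreducibleComponents β := by
    refine Set.Subset.antisymm (fun T hT ↦ ?_) (Set.image_subset_iff.mpr h1)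
    obtain ⟨a, ha⟩ := hT.1.nonempty
    let Z := irreducibleComponent (q a)
    obtain ⟨Z', hZ', hsub⟩ : ∃ Z' ∈ irreducibleComponents β, q '' T ⊆ Z' := by
      obtain ⟨Z', hZ', hle, hmax⟩ := exists_preirreducible (q '' T) (hT.1.image q hc.continuousOn).2
      exact ⟨Z', ⟨⟨((hT.1.image q hc.continuousOn).nonempty).mono hle, hZ'⟩,
        fun W hW hZW ↦ (hmax W hW.2 hZW).le⟩, hle⟩
    refine ⟨Z', hZ', Set.Subset.antisymm ?_ (Set.image_subset_iff.mp hsub)⟩
    exact hT.2 (hirr Z' hZ'.1) (Set.image_subset_iff.mp hsub)
  rw [h2, (Set.injOn_of_injective (hs.preimage_injective)).encard_image]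

/-- A surjection with connected preimages of connected sets preserves connected components. -/
theorem card_connectedComponents_eq {α β : Type u} [TopologicalSpace α] [TopologicalSpace β]
    {q : α → β} (hc : Continuous q) (hs : Function.Surjective q)
    (hconn : ∀ Z : Set β, _root_.IsConnected Z → _root_.IsConnected (q ⁻¹' Z)) :
    ENat.card (_root_.ConnectedComponents α) = ENat.card (_root_.ConnectedComponents β) := by
  refine ENat.card_congr (Equiv.ofBijective hc.connectedComponentsMap ⟨?_, ?_⟩)
  · intro c d h
    obtain ⟨a, rfl⟩ := _root_.ConnectedComponents.surjective_coe c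
    obtain ⟨b, rfl⟩ := _root_.ConnectedComponents.surjective_coe d
    have h' : connectedComponent (q a) = connectedComponent (q b) :=
      _root_.ConnectedComponents.coe_eq_coe.mp h
    refine _root_.ConnectedComponents.coe_eq_coe'.mpr
      ((hconn _ (isConnected_connectedComponent (x := q b))).isPreconnected.subset_connectedComponent
        (show b ∈ q ⁻¹' connectedComponent (q b) from mem_connectedComponent) ?_)
    show q a ∈ connectedComponent (q b)
    exact h' ▸ mem_connectedComponent
  · intro c
    obtain ⟨b, rfl⟩ := _root_.ConnectedComponents.surjective_coe c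
    obtain ⟨a, rfl⟩ := hs b
    exact ⟨_root_.ConnectedComponents.mk a, rfl⟩

variable {X Y : Scheme.{u}} (f : X ⟶ Y)

/-- The map between the fibres at field-valued points over one another. -/
theorem exists_bc {K L : Type u} [Field K] [Field L] [Algebra K L]
    (v : Spec (CommRingCat.of K) ⟶ Y) (v' : Spec (CommRingCat.of L) ⟶ Y)
    (h : Spec.map (CommRingCat.ofHom (algebraMap K L)) ≫ v = v') :
    ∃ q : pullback f v' ⟶ pullback f v, q ≫ pullback.fst f v = pullback.fst f v' ∧
      IsPullback q (pullback.snd f v') (pullback.snd f v) (Spec.map (CommRingCat.ofHom (algebraMap K L))) := by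
  subst h
  refine ⟨pullback.lift (pullback.fst f _) (pullback.snd f _ ≫ Spec.map (CommRingCat.ofHom (algebraMap K L)))
    (by rw [Category.assoc]; exact pullback.condition), pullback.lift_fst _ _ _,
    IsPullback.of_right ?_ (pullback.lift_snd _ _ _) (IsPullback.of_hasPullback f v)⟩
  rw [pullback.lift_fst]
  exact IsPullback.of_hasPullback _ _

/-- A base change along an extension of fields is surjective and open. -/
theorem bc_props {K L : Type u} [Field K] [Field L] [Algebra K L] {P P' : Scheme.{u}}
    {q : P' ⟶ P} {p' : P' ⟶ Spec (CommRingCat.of L)} {p : P ⟶ Spec (CommRingCat.of K)}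
    (hq : IsPullback q p' p (Spec.map (CommRingCat.ofHom (algebraMap K L)))) :
    Function.Surjective q ∧ IsOpenMap q ∧ (IsAlgClosed K →
      (∀ Z : Set P, IsIrreducible Z → IsIrreducible (q ⁻¹' Z)) ∧
      ∀ Z : Set P, _root_.IsConnected Z → _root_.IsConnected (q ⁻¹' Z)) := by
  have : Surjective q := MorphismProperty.of_isPullback hq.flip GeomConn.surjective_Spec_field
  have : UniversallyOpen q := MorphismProperty.of_isPullback hq.flip (Groth.Agent.GrpField.PointBase.uopen L _)
  refine ⟨q.surjective, q.isOpenMap, fun _ ↦ ?_⟩
  have : GeometricallyIrreducible q :=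
    MorphismProperty.of_isPullback hq.flip (GeomConn.geometricallyIrreducible_Spec (k := K) L)
  have : GeometricallyConnected q :=
    MorphismProperty.of_isPullback hq.flip (GeomConn.geometricallyConnected_Spec (k := K) L)
  exact ⟨fun Z hZ ↦ q.isIrreducible_preimage q.isOpenMap hZ,
    fun Z hZ ↦ GeomConn.isConnected_preimage q.isOpenMap (fun x ↦ q.isConnected_preimage_singleton x) hZ⟩

/-- The counts over two algebraically closed fields over the same point agree, first for a tower. -/
theorem counts_eq_of_tower {K L : Type u} [Field K] [IsAlgClosed K] [Field L] [Algebra K L]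
    (v : Spec (CommRingCat.of K) ⟶ Y) (v' : Spec (CommRingCat.of L) ⟶ Y)
    (h : Spec.map (CommRingCat.ofHom (algebraMap K L)) ≫ v = v') :
    (irreducibleComponents ↥(pullback f v')).encard = (irreducibleComponents ↥(pullback f v)).encard ∧
      ENat.card (_root_.ConnectedComponents ↥(pullback f v')) =
        ENat.card (_root_.ConnectedComponents ↥(pullback f v)) := by
  obtain ⟨q, -, hq⟩ := exists_bc f v v' h
  obtain ⟨hs, -, hp⟩ := bc_props hq
  obtain ⟨hi, hc⟩ := hp ‹_›
  exact ⟨encard_irreducibleComponents_eq q.continuous hs hi, card_connectedComponents_eq q.continuous hs hc⟩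

/-- A field-valued point is a point of the residue field of its image. -/
theorem exists_fac_residueField {K : Type u} [Field K] (v : Spec (CommRingCat.of K) ⟶ Y) (y : Y)
    (hy : v (IsLocalRing.closedPoint K) = y) :
    ∃ ψ : Y.residueField y ⟶ CommRingCat.of K, Spec.map ψ ≫ Y.fromSpecResidueField y = v := by
  subst hy
  exact ⟨(Y.SpecToEquivOfField K v).2, (Y.SpecToEquivOfField K).symm_apply_apply v⟩

/-- The algebraic closure of the residue field as a point. -/
noncomputable abbrev geomPt (y : Y) : Spec (CommRingCat.of (AlgebraicClosure (Y.residueField y))) ⟶ Y :=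
  Spec.map (CommRingCat.ofHom (algebraMap (Y.residueField y) (AlgebraicClosure (Y.residueField y)))) ≫
    Y.fromSpecResidueField y

/-- The counts over any algebraically closed field over a point are those over the closure. -/
theorem counts_eq_geomPt {K : Type u} [Field K] [IsAlgClosed K] (v : Spec (CommRingCat.of K) ⟶ Y) (y : Y)
    (hy : v (IsLocalRing.closedPoint K) = y) :
    (irreducibleComponents ↥(pullback f v)).encard =
        (irreducibleComponents ↥(pullback f (geomPt y))).encard ∧
      ENat.card (_root_.ConnectedComponents ↥(pullback f v)) =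
        ENat.card (_root_.ConnectedComponents ↥(pullback f (geomPt y))) := by
  obtain ⟨ψ, hψ⟩ := exists_fac_residueField v y hy
  letI : Algebra (Y.residueField y) K := ψ.hom.toAlgebra
  obtain ⟨L, _, _, _, _, _, _⟩ := GeomConn.exists_common_field (Y.residueField y) K
    (AlgebraicClosure (Y.residueField y))
  let vL : Spec (CommRingCat.of L) ⟶ Y :=
    Spec.map (CommRingCat.ofHom (algebraMap (Y.residueField y) L)) ≫ Y.fromSpecResidueField y
  have h1 : Spec.map (CommRingCat.ofHom (algebraMap K L)) ≫ v = vL := by
    rw [← hψ, ← Category.assoc, ← Spec.map_comp]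
    congr 2
    exact CommRingCat.hom_ext (IsScalarTower.algebraMap_eq (Y.residueField y) K L).symm
  have h2 : Spec.map (CommRingCat.ofHom (algebraMap (AlgebraicClosure (Y.residueField y)) L)) ≫ geomPt y = vL := by
    rw [← Category.assoc, ← Spec.map_comp]
    congr 2
    exact CommRingCat.hom_ext
      (IsScalarTower.algebraMap_eq (Y.residueField y) (AlgebraicClosure (Y.residueField y)) L).symm
  obtain ⟨a1, a2⟩ := counts_eq_of_tower f v vL h1
  obtain ⟨b1, b2⟩ := counts_eq_of_tower f (geomPt y) vL h2
  exact ⟨a1.symm.trans b1, a2.symm.trans b2⟩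

theorem encard_irreducibleComponents_congr {α β : Type u} [TopologicalSpace α] [TopologicalSpace β]
    (e : α ≃ₜ β) : (irreducibleComponents α).encard = (irreducibleComponents β).encard :=
  encard_irreducibleComponents_eq e.continuous e.surjective fun Z hZ ↦ by
    rw [← e.image_symm]; exact hZ.image _ e.symm.continuous.continuousOn

theorem card_connectedComponents_congr {α β : Type u} [TopologicalSpace α] [TopologicalSpace β]
    (e : α ≃ₜ β) :
    ENat.card (_root_.ConnectedComponents α) = ENat.card (_root_.ConnectedComponents β) :=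
  card_connectedComponents_eq e.continuous e.surjective fun Z hZ ↦ by
    rw [← e.image_symm]; exact hZ.image _ e.symm.continuous.continuousOn

/-- The geometric fibre has the same space over the separable and the algebraic closure. -/
theorem nonempty_homeomorph_geomFiber (y : Y) :
    Nonempty (↥(pullback f (geomPt y)) ≃ₜ ↥(MoreMor.geomFiber f y)) := by
  let k := Y.residueField y
  let S := SeparableClosure k
  let w : Spec (CommRingCat.of (AlgebraicClosure k)) ⟶ Spec (CommRingCat.of S) :=
    Spec.map (CommRingCat.ofHom (algebraMap S (AlgebraicClosure k)))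
  let vS : Spec (CommRingCat.of S) ⟶ Y :=
    Spec.map (CommRingCat.ofHom (algebraMap k S)) ≫ Y.fromSpecResidueField y
  have h : w ≫ vS = geomPt y := by
    rw [← Category.assoc, ← Spec.map_comp]
    congr 2
  obtain ⟨q, -, hq⟩ := exists_bc f vS (geomPt y) h
  have : IsIntegralHom w := IsIntegralHom.SpecMap_iff.2 Algebra.IsIntegral.isIntegral
  have : Surjective w := GeomConn.surjective_Spec_field
  have : UniversallyInjective w := by
    refine ((tfae_universallyInjective w).out 0 1).2 fun (L : Type u) [Field L] g₁ g₂ hg => ?_
    obtain ⟨a, rfl⟩ := Spec.map_surjective g₁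
    obtain ⟨b, rfl⟩ := Spec.map_surjective g₂
    have hg' : Spec.map a ≫ w = Spec.map b ≫ w := hg
    rw [← Spec.map_comp, ← Spec.map_comp] at hg'
    have h1 := congrArg CommRingCat.Hom.hom (Spec.map_injective hg')
    exact congrArg Spec.map
      (CommRingCat.hom_ext (IsPurelyInseparable.injective_comp_algebraMap S (AlgebraicClosure k) L h1))
  have : IsIntegralHom q := MorphismProperty.of_isPullback hq.flip inferInstance
  have : Surjective q := MorphismProperty.of_isPullback hq.flip inferInstance
  have : UniversallyInjective q := MorphismProperty.of_isPullback hq.flip inferInstance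
  exact ⟨(IsHomeomorph.homeomorph _ (GeomConn.isHomeomorph_of_integral q)).trans
    (pullbackLeftPullbackSndIso f (Y.fromSpecResidueField y)
      (Spec.map (CommRingCat.ofHom (algebraMap k S)))).inv.homeomorph⟩

/-- The geometric counts may be read over any algebraically closed field over the point. -/
theorem nGeom_eq {K : Type u} [Field K] [IsAlgClosed K] (v : Spec (CommRingCat.of K) ⟶ Y) (y : Y)
    (hy : v (IsLocalRing.closedPoint K) = y) :
    MoreMor.nGeomIrredComp f y = (irreducibleComponents ↥(pullback f v)).encard ∧
      MoreMor.nGeomConnComp f y = ENat.card (_root_.ConnectedComponents ↥(pullback f v)) := by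
  obtain ⟨a, b⟩ := counts_eq_geomPt f v y hy
  obtain ⟨e⟩ := nonempty_homeomorph_geomFiber f y
  exact ⟨(encard_irreducibleComponents_congr e).symm.trans a.symm,
    (card_connectedComponents_congr e).symm.trans b.symm⟩

end Groth.Agent.GeomFib

namespace Groth.Agent.GeomFib

/-- The geometric counts are invariant under base change. -/
theorem nGeom_baseChange {X Y X' Y' : Scheme.{u}} {f : X ⟶ Y} {f' : X' ⟶ Y'} {g' : X' ⟶ X} {g : Y' ⟶ Y}
    (hc : IsPullback g' f' f g) (y' : Y') :
    MoreMor.nGeomIrredComp f' y' = MoreMor.nGeomIrredComp f (g y') ∧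
      MoreMor.nGeomConnComp f' y' = MoreMor.nGeomConnComp f (g y') := by
  let v := geomPt (Y := Y') y'
  have hv : v (IsLocalRing.closedPoint _) = y' := by
    show Y'.fromSpecResidueField y' _ = y'
    exact Scheme.fromSpecResidueField_apply _ _
  have hv' : (v ≫ g) (IsLocalRing.closedPoint _) = g y' := by rw [Scheme.Hom.comp_apply, hv]
  let e : pullback f' v ≅ pullback f (v ≫ g) :=
    ((IsPullback.of_hasPullback f' v).paste_horiz hc).isoPullback
  obtain ⟨a, b⟩ := nGeom_eq f' v y' hv
  obtain ⟨a', b'⟩ := nGeom_eq f (v ≫ g) (g y') hv'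
  rw [a, b, a', b']
  exact ⟨encard_irreducibleComponents_congr e.hom.homeomorph,
    card_connectedComponents_congr e.hom.homeomorph⟩

end Groth.Agent.GeomFib
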