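import Groth.Agent.GeomFib.Consequences
import Groth.Agent.Unibranch.SectionComp
import Groth.Agent.Rigid.FibreTranslate
import Groth.Agent.ConsEngine.IndCons
import Groth.Agent.ConsEngine.Model
import Groth.Agent.S3401

/-!
# The union of the connected components of the fibres through a section
-/

set_option autoImplicit false

universe u

open CategoryTheory AlgebraicGeometry Limits TopologicalSpace

namespace Groth.Agent.GeomFib

variable {X Y : Scheme.{u}} (f : X ⟶ Y) (g : Y ⟶ X)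

theorem mem_sectionComponents_iff (x : X) :
    x ∈ MoreMor.sectionComponents f g ↔ x ∈ connectedComponentIn (f.base ⁻¹' {f.base x}) (g.base (f.base x)) :=
  Iff.rfl

theorem section_apply (hg : g ≫ f = 𝟙 Y) (y : Y) : f.base (g.base y) = y := by
  have : (g ≫ f).base y = y := by rw [hg]; rfl
  exact this

/-- Two points of a component of a fibre lie in a quasi-compact open with connected trace on the fibre. -/
theorem exists_qc_open_connected [LocallyOfFiniteType f] {y : Y} (G : X.Opens)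
    (hG : f.base ⁻¹' {y} ⊆ (G : Set X)) {a x : X} (hay : f.base a = y)
    (ha : x ∈ connectedComponentIn (f.base ⁻¹' {y}) a) :
    ∃ U : X.Opens, IsCompact (U : Set X) ∧ U ≤ G ∧ a ∈ U ∧ x ∈ U ∧ _root_.IsPreconnected ((U : Set X) ∩ f.base ⁻¹' {y}) := by
  obtain ⟨p, rfl⟩ := (f.range_fiberι y).ge (show a ∈ f.base ⁻¹' {y} from hay)
  rw [← Unibranch.fiberι_image_connectedComponent] at ha
  obtain ⟨q, hq, rfl⟩ := ha
  have := Unibranch.locallyConnectedSpace_fiber f y
  have : LocallyOfFiniteType (f.fiberToSpecResidueField y) := MorphismProperty.pullback_snd _ _ ‹_›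
  -- small connected compact opens
  have hnbd : ∀ r : ↥(f.fiber y), ∃ K : Set ↥(f.fiber y), IsOpen K ∧ IsCompact K ∧ _root_.IsPreconnected K ∧ r ∈ K := by
    intro r
    obtain ⟨_, ⟨W, hW, rfl⟩, hrW, -⟩ := (f.fiber y).isBasis_affineOpens.exists_subset_of_mem_open
      (Set.mem_univ r) isOpen_univ
    have : IsLocallyNoetherian (f.fiber y) := LocallyOfFiniteType.isLocallyNoetherian (f.fiberToSpecResidueField y)
    have : IsNoetherianRing Γ(f.fiber y, W) := IsLocallyNoetherian.component_noetherian ⟨W, hW⟩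
    have hnoeth : NoetherianSpace ↥(W : Set ↥(f.fiber y)) := noetherianSpace_of_isAffineOpen W hW
    refine ⟨connectedComponentIn (W : Set ↥(f.fiber y)) r, W.2.connectedComponentIn, ?_,
      isPreconnected_connectedComponentIn, mem_connectedComponentIn hrW⟩
    have hc : IsCompact (Subtype.val ⁻¹' connectedComponentIn (W : Set ↥(f.fiber y)) r : Set ↥(W : Set ↥(f.fiber y))) :=
      NoetherianSpace.isCompact _
    have := hc.image continuous_subtype_val
    rwa [Set.image_preimage_eq_inter_range, Subtype.range_coe,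
      Set.inter_eq_left.mpr (connectedComponentIn_subset _ _)] at this
  let R : Set ↥(f.fiber y) := {r | ∃ K, IsOpen K ∧ IsCompact K ∧ _root_.IsPreconnected K ∧ p ∈ K ∧ r ∈ K}
  have hR : IsClopen R := by
    refine ⟨⟨isOpen_iff_forall_mem_open.mpr fun r hr ↦ ?_⟩,
      isOpen_iff_forall_mem_open.mpr fun r ⟨K, h1, h2, h3, h4, h5⟩ ↦ ⟨K, fun z hz ↦ ⟨K, h1, h2, h3, h4, hz⟩, h1, h5⟩⟩
    obtain ⟨K, h1, h2, h3, h4⟩ := hnbd r
    refine ⟨K, fun z hz ⟨K', k1, k2, k3, k4, k5⟩ ↦ hr ?_, h1, h4⟩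
    exact ⟨K' ∪ K, k1.union h1, k2.union h2, _root_.IsPreconnected.union z k5 hz k3 h3, .inl k4, .inr h4⟩
  obtain ⟨K, hK1, hK2, hK3, hpK, hqK⟩ := hR.connectedComponent_subset
    (show p ∈ R from let ⟨K, h1, h2, h3, h4⟩ := hnbd p; ⟨K, h1, h2, h3, h4, h4⟩) hq
  obtain ⟨O, hO, hOK⟩ := (f.fiberι y).isEmbedding.isInducing.isOpen_iff.mp hK1
  obtain ⟨t, ht⟩ := (hK2.image (f.fiberι y).continuous).elim_finite_subcover
    (fun W : {W : X.affineOpens // ((W : X.Opens) : Set X) ⊆ O ∩ (G : Set X)} ↦ ((W.1 : X.Opens) : Set X))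
    (fun W ↦ (W.1 : X.Opens).2) (by
      rintro _ ⟨r, hr, rfl⟩
      obtain ⟨_, ⟨W, hW, rfl⟩, hxW, hWO⟩ := X.isBasis_affineOpens.exists_subset_of_mem_open
        (show f.fiberι y r ∈ O ∩ (G : Set X) from ⟨hOK.ge hr, hG ((f.range_fiberι y).le ⟨r, rfl⟩)⟩) (hO.inter G.2)
      exact Set.mem_iUnion.mpr ⟨⟨⟨W, hW⟩, hWO⟩, hxW⟩)
  let U : X.Opens := ⟨⋃ W ∈ t, ((W.1 : X.Opens) : Set X), isOpen_biUnion fun W _ ↦ (W.1 : X.Opens).2⟩
  have hUK : (U : Set X) ∩ f.base ⁻¹' {y} = f.fiberι y '' K := by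
    refine Set.Subset.antisymm ?_ fun z hz ↦ ⟨ht hz, (f.range_fiberι y).le (Set.image_subset_range _ _ hz)⟩
    rintro z ⟨hzU, hzy⟩
    obtain ⟨r, rfl⟩ := (f.range_fiberι y).ge hzy
    obtain ⟨W, -, hzW⟩ := Set.mem_iUnion₂.mp hzU
    exact ⟨r, hOK.le (W.2 hzW).1, rfl⟩
  exact ⟨U, t.isCompact_biUnion fun W _ ↦ W.1.2.isCompact,
    fun z hz ↦ by obtain ⟨W, -, hzW⟩ := Set.mem_iUnion₂.mp hz; exact (W.2 hzW).2, ht ⟨p, hpK, rfl⟩, ht ⟨q, hqK, rfl⟩,
    hUK ▸ hK3.image _ (f.fiberι y).continuous.continuousOn⟩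

/-- A connected scheme over a point with a section has connected geometric fibre. -/
theorem nGeomConnComp_eq_one [LocallyOfFiniteType f] (hg : g ≫ f = 𝟙 Y) (y : Y)
    (hc : _root_.IsConnected (f.base ⁻¹' {y})) : MoreMor.nGeomConnComp f y = 1 := by
  rw [← geometricallyConnected_fiber_iff]
  have : LocallyOfFiniteType (f.fiberToSpecResidueField y) := MorphismProperty.pullback_snd _ _ ‹_›
  have : ConnectedSpace (f.fiber y) :=
    (f.fiberHomeo y).connectedSpace_iff.mpr (isConnected_iff_connectedSpace.mp hc)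
  let σ : Spec (Y.residueField y) ⟶ f.fiber y :=
    pullback.lift (Y.fromSpecResidueField y ≫ g) (𝟙 _) (by rw [Category.assoc, hg, Category.comp_id, Category.id_comp])
  exact Rigid.geometricallyConnected_of_section (k := Y.residueField y) (f.fiberToSpecResidueField y) σ (pullback.lift_snd _ _ _)

/-- The section components contain, near each of their points, all the points over specialisations of
the image of the point. -/
theorem exists_open_mem_sectionComponents [LocallyOfFiniteType f] (hg : g ≫ f = 𝟙 Y) {x : X}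
    (hx : x ∈ MoreMor.sectionComponents f g) :
    ∃ O : X.Opens, x ∈ O ∧ ∀ x' ∈ O, f.base x ⤳ f.base x' → x' ∈ MoreMor.sectionComponents f g := by
  have hgy := section_apply f g hg (f.base x)
  obtain ⟨V, hV, hyV, -⟩ := exists_isAffineOpen_mem_and_subset (X := Y) (U := ⊤) (x := f.base x) trivial
  obtain ⟨U, hUc, hUV, hgU, hxU, hconn⟩ := exists_qc_open_connected f (f ⁻¹ᵁ V)
    (fun z (hz : f.base z = f.base x) ↦ show f.base z ∈ V from hz ▸ hyV) hgy hx
  -- base change to `V`
  let h : U.toScheme ⟶ V.toScheme := X.homOfLE hUV ≫ f ∣_ V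
  have hh : h ≫ V.ι = U.ι ≫ f := by
    rw [Category.assoc, morphismRestrict_ι, Scheme.homOfLE_ι_assoc]
  have : CompactSpace U.toScheme := isCompact_iff_compactSpace.mp hUc
  have : IsAffine V.toScheme := hV
  have : QuasiCompact h := (quasiCompact_iff_compactSpace h).mpr inferInstance
  -- the section over the preimage of `U`
  let V' : Y.Opens := V ⊓ g ⁻¹ᵁ U
  have hyV' : f.base x ∈ V' := ⟨hyV, hgU⟩
  let W' : V.toScheme.Opens := V.ι ⁻¹ᵁ V'
  have : QuasiCompact (h ∣_ W') := MorphismProperty.of_isPullback (isPullback_morphismRestrict h W').flip ‹_›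
  have hWU : ∀ w : W'.toScheme, (W'.ι ≫ V.ι).base w ∈ V' := fun w ↦ w.2
  have hfac : Set.range (W'.ι ≫ V.ι ≫ g).base ⊆ Set.range U.ι.base := by
    rintro _ ⟨w, rfl⟩
    rw [U.range_ι]
    exact (hWU w).2
  let l : W'.toScheme ⟶ U.toScheme := IsOpenImmersion.lift U.ι (W'.ι ≫ V.ι ≫ g) hfac
  have hl : l ≫ U.ι = W'.ι ≫ V.ι ≫ g := IsOpenImmersion.lift_fac _ _ _
  have hlh : l ≫ h = W'.ι := by
    rw [← cancel_mono V.ι, Category.assoc, hh, reassoc_of% hl, hg, Category.comp_id]
  obtain ⟨σ, hσ⟩ : ∃ σ : W'.toScheme ⟶ (h ⁻¹ᵁ W').toScheme, σ ≫ h ∣_ W' = 𝟙 _ := by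
    refine ⟨(isPullback_morphismRestrict h W').flip.lift l (𝟙 _) (by rw [Category.id_comp, hlh]), ?_⟩
    exact IsPullback.lift_snd _ _ _ _
  let hW := h ∣_ W'
  let j := (h ⁻¹ᵁ W').ι ≫ U.ι
  have hjf : j ≫ f = hW ≫ W'.ι ≫ V.ι := by
    simp only [j, hW, Category.assoc, morphismRestrict_ι_assoc, hh]
  obtain ⟨w₀, hw₀⟩ : ∃ w₀ : W'.toScheme, (W'.ι ≫ V.ι).base w₀ = f.base x := ⟨⟨⟨f.base x, hyV⟩, hyV'⟩, rfl⟩
  have hfib : ∀ w : W'.toScheme,
      j.base '' (hW.base ⁻¹' {w}) = (U : Set X) ∩ f.base ⁻¹' {(W'.ι ≫ V.ι).base w} := by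
    intro w
    refine Set.Subset.antisymm ?_ fun z ⟨hzU, hz⟩ ↦ ?_
    · rintro _ ⟨z, hz, rfl⟩
      refine ⟨z.1.2, ?_⟩
      show (j ≫ f).base z = _
      rw [hjf, Scheme.Hom.comp_apply]
      exact congrArg (W'.ι ≫ V.ι).base hz
    · have h1 : (W'.ι ≫ V.ι).base w = f.base z := hz.symm
      have hinj : Function.Injective (W'.ι ≫ V.ι).base := (W'.ι ≫ V.ι).isOpenEmbedding.injective
      have hzW : (⟨z, hzU⟩ : U.toScheme) ∈ h ⁻¹ᵁ W' := by
        show (h ≫ V.ι).base ⟨z, hzU⟩ ∈ V'
        rw [hh, Scheme.Hom.comp_apply]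
        show f.base z ∈ V'
        exact h1 ▸ hWU w
      refine ⟨⟨⟨z, hzU⟩, hzW⟩, hinj ?_, rfl⟩
      rw [← Scheme.Hom.comp_apply hW, ← hjf, h1]
      rfl
  have hn : MoreMor.nGeomConnComp hW w₀ = 1 := by
    refine nGeomConnComp_eq_one hW σ hσ w₀ ⟨⟨σ.base w₀, section_apply hW σ hσ w₀⟩, ?_⟩
    have hje : Topology.IsInducing j.base := j.isOpenEmbedding.isInducing
    rw [← hje.isPreconnected_image, hfib, hw₀]
    exact hconn
  obtain ⟨O, hO, hOc⟩ := exists_open_nGeom hW w₀
  refine ⟨U ⊓ f ⁻¹ᵁ ((W'.ι ≫ V.ι) ''ᵁ O), ⟨hxU, ⟨w₀, hO, hw₀⟩⟩, fun x' hx' hsp ↦ ?_⟩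
  obtain ⟨w, hw, hwx⟩ := hx'.2
  have hwsp : w₀ ⤳ w := (W'.ι ≫ V.ι).isOpenEmbedding.isInducing.specializes_iff.mp (by
    rw [hw₀, show (W'.ι ≫ V.ι) w = f x' from hwx]; exact hsp)
  have hgc := (geometricallyConnected_fiber_iff hW w).mpr ((hOc w hw hwsp).2.trans hn)
  have : ConnectedSpace (hW.fiber w) := hgc.geometrically_connectedSpace (𝟙 _)
    (𝟙 _) (hW.fiberToSpecResidueField w) IsPullback.of_id_fst
  have hpc : _root_.IsPreconnected ((U : Set X) ∩ f.base ⁻¹' {f.base x'}) := by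
    rw [← show (W'.ι ≫ V.ι).base w = f.base x' from hwx, ← hfib, ← hW.range_fiberι]
    exact (isPreconnected_range (hW.fiberι w).continuous).image _ j.continuous.continuousOn
  have hgU' : g.base (f.base x') ∈ U := by
    rw [← show (W'.ι ≫ V.ι).base w = f.base x' from hwx]
    exact (hWU w).2
  exact hpc.subset_connectedComponentIn ⟨hgU', section_apply f g hg _⟩ Set.inter_subset_right ⟨hx'.1, rfl⟩

end Groth.Agent.GeomFib

namespace Groth.Agent.GeomFib

variable {X Y : Scheme.{u}} (f : X ⟶ Y) (g : Y ⟶ X)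

/-- Outside the section components, near a point, there are no specialisations of it inside them. -/
theorem exists_open_not_mem_sectionComponents [LocallyOfFiniteType f] [QuasiCompact f] (hg : g ≫ f = 𝟙 Y)
    {x : X} (hx : x ∉ MoreMor.sectionComponents f g) :
    ∃ O : X.Opens, x ∈ O ∧ ∀ x' ∈ O, x ⤳ x' → x' ∉ MoreMor.sectionComponents f g := by
  obtain ⟨y, hy⟩ : ∃ y, f.base x = y := ⟨_, rfl⟩
  obtain ⟨A, _, _, σ, hσ, hO⟩ := exists_integral_chart y
  let P := connectedComponentIn (f.base ⁻¹' {y}) (g.base y)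
  let Q := f.base ⁻¹' {y} \ P
  have hgy := section_apply f g hg y
  obtain ⟨O₁, hO₁⟩ := Unibranch.exists_opens_inter_eq f y hgy
  have hdisj : ∀ z, f.base z = y → z ∈ closure P → z ∈ closure Q → False := by
    intro z hzy hzP hzQ
    have h1 : z ∈ P := by
      have := isClosed_connectedComponent (x := (⟨g.base y, hgy⟩ : f.base ⁻¹' {y}))
      obtain ⟨C, hC, hCeq⟩ := isClosed_induced_iff.mp this
      have hP : P = C ∩ f.base ⁻¹' {y} := by
        show connectedComponentIn _ _ = _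
        rw [connectedComponentIn_eq_image (show g.base y ∈ f.base ⁻¹' {y} from hgy), ← hCeq, Set.inter_comm,
          Subtype.image_preimage_coe]
      rw [hP]
      exact ⟨closure_minimal (hP ▸ Set.inter_subset_left) hC hzP, hzy⟩
    obtain ⟨w, hwO, hwQ⟩ := mem_closure_iff.mp hzQ O₁ O₁.2 (hO₁.ge h1).1
    exact hwQ.2 (hO₁.le ⟨hwO, hwQ.1⟩)
  obtain ⟨a₁, ha₁, h₁⟩ := exists_forall_generalization (pullback.snd f σ) Set.univ isClosed_univ
  obtain ⟨a₂, ha₂, h₂⟩ := exists_forall_generalization (pullback.snd f σ)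
    (pullback.fst f σ ⁻¹' (closure P ∩ closure Q))
    ((isClosed_closure.inter isClosed_closure).preimage (pullback.fst f σ).continuous)
  obtain ⟨OY, hyO, hOY⟩ := hO (a₁ * a₂) (mul_ne_zero ha₁ ha₂)
  have hgen : ∀ z₀ : ↥(pullback f σ), pullback.snd f σ z₀ = gpt (A := A) → f.base (pullback.fst f σ z₀) = y := by
    intro z₀ h
    rw [← Scheme.Hom.comp_apply, pullback.condition, Scheme.Hom.comp_apply, h]
    exact hσ
  refine ⟨f ⁻¹ᵁ OY, show f.base x ∈ OY from hy ▸ hyO, fun x' hx'O hsp hx' ↦ ?_⟩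
  obtain ⟨t, ht, htx⟩ := hOY (f.base x') hx'O (hy ▸ hsp.map f.continuous)
  have ht₁ : a₁ ∉ t.asIdeal := fun h ↦ ht (t.asIdeal.mul_mem_right _ h)
  have ht₂ : a₂ ∉ t.asIdeal := fun h ↦ ht (t.asIdeal.mul_mem_left _ h)
  -- the fibre is the disjoint union of the traces of the closures
  have hfib : ∀ z, f.base z = f.base x' → (z ∈ closure P ∨ z ∈ closure Q) ∧ (z ∈ closure P → z ∈ closure Q → False) := by
    intro z hz
    obtain ⟨z', hz'z, hz't⟩ := Scheme.Pullback.exists_preimage_pullback (f := f) (g := σ) z t (hz.trans htx.symm)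
    constructor
    · obtain ⟨z₀, -, hsp₀, hz₀⟩ := h₁ z' trivial (by rw [hz't]; exact ht₁)
      have h0 := hgen z₀ hz₀
      have hsp' : pullback.fst f σ z₀ ⤳ z := hz'z ▸ hsp₀.map (pullback.fst f σ).continuous
      by_cases hP : pullback.fst f σ z₀ ∈ P
      · exact .inl (hsp'.mem_closed isClosed_closure (subset_closure hP))
      · exact .inr (hsp'.mem_closed isClosed_closure (subset_closure ⟨h0, hP⟩))
    · intro hzP hzQ
      obtain ⟨z₀, hz₀Z, -, hz₀⟩ := h₂ z' (by
        show pullback.fst f σ z' ∈ closure P ∩ closure Q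
        rw [hz'z]; exact ⟨hzP, hzQ⟩) (by rw [hz't]; exact ht₂)
      exact hdisj _ (hgen z₀ hz₀) hz₀Z.1 hz₀Z.2
  have hxQ : x' ∈ closure Q := hsp.mem_closed isClosed_closure
    (subset_closure ⟨hy, fun h ↦ hx (show x ∈ connectedComponentIn (f.base ⁻¹' {f.base x}) (g.base (f.base x)) by
      rw [hy]; exact h)⟩)
  have hgP : g.base (f.base x') ∈ closure P :=
    (((hy ▸ hsp.map f.continuous : y ⤳ f.base x')).map g.continuous).mem_closed isClosed_closure
      (subset_closure (mem_connectedComponentIn (show g.base y ∈ f.base ⁻¹' {y} from hgy)))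
  have hgx := section_apply f g hg (f.base x')
  obtain ⟨z, hz, hzP, hzQ⟩ := isPreconnected_closed_iff.mp
    (isPreconnected_connectedComponentIn (F := f.base ⁻¹' {f.base x'}) (x := g.base (f.base x')))
    (closure P) (closure Q) isClosed_closure isClosed_closure
    (fun z hz ↦ (hfib z (connectedComponentIn_subset (f.base ⁻¹' {f.base x'}) _ hz)).1)
    ⟨_, mem_connectedComponentIn hgx, hgP⟩ ⟨x', hx', hxQ⟩
  exact (hfib z (connectedComponentIn_subset (f.base ⁻¹' {f.base x'}) _ hz)).2 hzP hzQ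

/-- The section components commute with base change. -/
theorem sectionComponents_baseChange [LocallyOfFiniteType f] (hg : g ≫ f = 𝟙 Y) {X' Y' : Scheme.{u}}
    {f' : X' ⟶ Y'} {e : X' ⟶ X} {σ : Y' ⟶ Y} (hsq : IsPullback e f' f σ) {g' : Y' ⟶ X'}
    (hg' : g' ≫ f' = 𝟙 Y') (hge : g' ≫ e = σ ≫ g) :
    MoreMor.sectionComponents f' g' = e.base ⁻¹' MoreMor.sectionComponents f g := by
  ext x'
  obtain ⟨y', hy'⟩ : ∃ y', f'.base x' = y' := ⟨_, rfl⟩
  have hfe : ∀ z : X', f.base (e.base z) = σ.base (f'.base z) := fun z ↦ by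
    show (e ≫ f).base z = _
    rw [hsq.w]; rfl
  have hge' : e.base (g'.base y') = g.base (σ.base y') := by
    show (g' ≫ e).base y' = _
    rw [hge]; rfl
  show x' ∈ connectedComponentIn (f'.base ⁻¹' {f'.base x'}) (g'.base (f'.base x')) ↔
    e.base x' ∈ connectedComponentIn (f.base ⁻¹' {f.base (e.base x')}) (g.base (f.base (e.base x')))
  rw [hfe, hy']
  have hgy' := section_apply f' g' hg' y'
  constructor
  · intro h
    exact (isPreconnected_connectedComponentIn.image e.base e.continuous.continuousOn).subset_connectedComponentIn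
      ⟨g'.base y', mem_connectedComponentIn hgy', hge'⟩
      (by
        rintro _ ⟨z, hz, rfl⟩
        show f.base (e.base z) = _
        rw [hfe, show f'.base z = y' from connectedComponentIn_subset (f'.base ⁻¹' {y'}) _ hz])
      ⟨x', h, rfl⟩
  intro h
  let y := σ.base y'
  let k := Y.residueField y
  have : LocallyOfFiniteType (f.fiberToSpecResidueField y) := MorphismProperty.pullback_snd _ _ ‹_›
  let s : Spec k ⟶ f.fiber y :=
    pullback.lift (Y.fromSpecResidueField y ≫ g) (𝟙 _) (by rw [Category.assoc, hg, Category.comp_id, Category.id_comp])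
  have hs : s ≫ f.fiberToSpecResidueField y = 𝟙 _ := pullback.lift_snd _ _ _
  have : GeometricallyConnected (𝟙 (Spec k)) :=
    Rigid.geometricallyConnected_of_section (k := k) (𝟙 _) (𝟙 _) (Category.id_comp _)
  let _ : Algebra k (Y'.residueField y') := (σ.residueFieldMap y').hom.toAlgebra
  have hq := ConsEngine.isPullback_fiberBC hsq y'
  let q := ConsEngine.fiberBC hsq y'
  let p₀ := s (IsLocalRing.closedPoint k)
  have hp₀ : f.fiberι y p₀ = g.base y := by
    show (s ≫ f.fiberι y) (IsLocalRing.closedPoint k) = _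
    rw [show s ≫ f.fiberι y = Y.fromSpecResidueField y ≫ g from pullback.lift_fst _ _ _, Scheme.Hom.comp_apply,
      Scheme.fromSpecResidueField_apply]
  have hconn := GeomConn.isConnected_preimage_connectedComponent (k := k) (K := Y'.residueField y')
    (f.fiberToSpecResidueField y) (𝟙 _) s hs (IsLocalRing.closedPoint k)
  have hqe : hq.isoPullback.hom ≫ pullback.fst (f.fiberToSpecResidueField y) (Spec.map (σ.residueFieldMap y')) = q :=
    hq.isoPullback_hom_fst
  have hpre : _root_.IsPreconnected (q.base ⁻¹' connectedComponent p₀) := by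
    have h1 : _root_.IsPreconnected ((pullback.fst (f.fiberToSpecResidueField y) (Spec.map (σ.residueFieldMap y'))).base ⁻¹'
        connectedComponent p₀) := hconn.isPreconnected
    have h2 := h1.image hq.isoPullback.inv.base hq.isoPullback.inv.continuous.continuousOn
    convert h2 using 1
    rw [← hqe]
    refine Set.ext fun r ↦ ⟨fun hr ↦ ⟨hq.isoPullback.hom r, hr, ?_⟩, fun ⟨w, hw, hwr⟩ ↦ ?_⟩
    · show (hq.isoPullback.hom ≫ hq.isoPullback.inv).base r = r
      rw [Iso.hom_inv_id]; rfl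
    · rw [Set.mem_preimage, ← hwr, ← Scheme.Hom.comp_apply, Iso.inv_hom_id_assoc]
      exact hw
  have hkey := hpre.image (f'.fiberι y').base (f'.fiberι y').continuous.continuousOn
  have hmem : ∀ z : X', f'.base z = y' → e.base z ∈ connectedComponentIn (f.base ⁻¹' {y}) (g.base y) →
      z ∈ (f'.fiberι y').base '' (q.base ⁻¹' connectedComponent p₀) := by
    intro z hz hez
    obtain ⟨r, rfl⟩ := (f'.range_fiberι y').ge hz
    refine ⟨r, ?_, rfl⟩
    rw [← hp₀, ← Unibranch.fiberι_image_connectedComponent] at hez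
    obtain ⟨r', hr', hrr'⟩ := hez
    have h3 : f.fiberι y (q r) = e (f'.fiberι y' r) := by
      rw [← Scheme.Hom.comp_apply, ConsEngine.fiberBC_fiberι, Scheme.Hom.comp_apply]
    show q r ∈ connectedComponent p₀
    rwa [(f.fiberι y).isEmbedding.injective (h3.trans hrr'.symm)]
  refine hkey.subset_connectedComponentIn (hmem _ hgy' (by rw [hge']; exact mem_connectedComponentIn (section_apply f g hg y)))
    ?_ (hmem x' hy' h)
  rintro _ ⟨r, -, rfl⟩
  exact (f'.range_fiberι y').le ⟨r, rfl⟩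

/-- The section components of a morphism of finite presentation form a constructible set. -/
theorem isLocallyConstructible_sectionComponents_noetherian [IsLocallyNoetherian Y] [LocallyOfFiniteType f]
    [QuasiCompact f] (hg : g ≫ f = 𝟙 Y) :
    Topology.IsLocallyConstructible (MoreMor.sectionComponents f g) := by
  have : IsLocallyNoetherian X := LocallyOfFiniteType.isLocallyNoetherian f
  refine ConsEngine.isLocallyConstructible_of_indCons ((S3401.result X _).mpr fun x hx ↦ ?_)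
    ((S3401.result X _).mpr fun x hx ↦ ?_)
  · obtain ⟨O, hxO, h⟩ := exists_open_mem_sectionComponents f g hg hx
    exact mem_nhds_iff.mpr ⟨Subtype.val ⁻¹' (O : Set X),
      fun z hz ↦ h z.1 hz ((specializes_iff_mem_closure.mpr z.2).map f.continuous),
      O.2.preimage continuous_subtype_val, hxO⟩
  · obtain ⟨O, hxO, h⟩ := exists_open_not_mem_sectionComponents f g hg hx
    exact mem_nhds_iff.mpr ⟨Subtype.val ⁻¹' (O : Set X),
      fun z hz ↦ h z.1 hz (specializes_iff_mem_closure.mpr z.2),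
      O.2.preimage continuous_subtype_val, hxO⟩

end Groth.Agent.GeomFib

namespace Groth.Agent.GeomFib

theorem isLocallyConstructible_of_openCover {X : Scheme.{u}} (s : Set X)
    (h : ∀ x : X, ∃ W : X.Opens, x ∈ W ∧ Topology.IsLocallyConstructible (W.ι ⁻¹' s : Set W.toScheme)) :
    Topology.IsLocallyConstructible s := by
  intro x
  obtain ⟨W, hxW, hW⟩ := h x
  obtain ⟨U, hxU, hU, hcons⟩ := hW ⟨x, hxW⟩
  let e := W.ι.isOpenEmbedding.isEmbedding.homeomorphImage U
  refine ⟨W.ι '' U, W.ι.isOpenEmbedding.isOpenMap.image_mem_nhds hxU, W.ι.isOpenEmbedding.isOpenMap _ hU, ?_⟩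
  convert! hcons.preimage_of_isOpenEmbedding e.symm.isOpenEmbedding using 1
  ext z
  show z.1 ∈ s ↔ W.ι (e.symm z).1 ∈ s
  rw [show W.ι (e.symm z).1 = (e (e.symm z)).1 from rfl, e.apply_symm_apply]

/-- Over an affine base the constructibility reduces to a Noetherian base. -/
theorem isLocallyConstructible_sectionComponents_affine {A : Type u} [CommRing A] {X : Scheme.{u}}
    (f : X ⟶ Spec (CommRingCat.of A)) (g : Spec (CommRingCat.of A) ⟶ X) (hg : g ≫ f = 𝟙 _)
    [LocallyOfFinitePresentation f] [QuasiCompact f] [QuasiSeparated f] :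
    Topology.IsLocallyConstructible (MoreMor.sectionComponents f g) := by
  have : LocallyOfFinitePresentation (g ≫ f) := by rw [hg]; infer_instance
  have : QuasiCompact (g ≫ f) := by rw [hg]; infer_instance
  have : QuasiSeparated (g ≫ f) := by rw [hg]; infer_instance
  obtain ⟨S₀, σ, T₀, X₀, g₀, f₀, qX, qT, hnoeth, _, _, _, _, _, _, hX, hT⟩ := ConsEngine.exists_model_mor g f
  let τ := g₀ ≫ f₀
  have hτ : qT ≫ τ = σ := by
    rw [← Category.assoc, hT.w, Category.assoc, hX.w, ← Category.assoc, hg, Category.id_comp]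
  have hnT : IsLocallyNoetherian T₀ := LocallyOfFiniteType.isLocallyNoetherian τ
  let f₁ := pullback.snd f₀ τ
  let g₁ : T₀ ⟶ pullback f₀ τ := pullback.lift g₀ (𝟙 _) (by rw [Category.id_comp])
  have hg₁ : g₁ ≫ f₁ = 𝟙 _ := pullback.lift_snd _ _ _
  let e : X ⟶ pullback f₀ τ := pullback.lift qX (f ≫ qT) (by rw [Category.assoc, hτ, hX.w])
  have hsq : IsPullback e f f₁ qT := by
    refine IsPullback.of_right ?_ (pullback.lift_snd _ _ _) (IsPullback.of_hasPullback f₀ τ)
    rw [pullback.lift_fst, hτ]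
    exact hX
  have hge : g ≫ e = qT ≫ g₁ := by
    apply pullback.hom_ext
    · simp only [e, g₁, Category.assoc, pullback.lift_fst]
      exact hT.w.symm
    · simp only [e, g₁, Category.assoc, pullback.lift_snd, Category.comp_id]
      rw [← Category.assoc, hg, Category.id_comp]
  rw [sectionComponents_baseChange f₁ g₁ hg₁ hsq hg hge]
  exact ConsEngine.isLocallyConstructible_preimage e (isLocallyConstructible_sectionComponents_noetherian f₁ g₁ hg₁)

/-- The section components of a morphism of finite presentation are locally constructible. -/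
theorem isLocallyConstructible_sectionComponents {X Y : Scheme.{u}} (f : X ⟶ Y) (g : Y ⟶ X) (hg : g ≫ f = 𝟙 Y)
    [LocallyOfFinitePresentation f] [QuasiCompact f] [QuasiSeparated f] :
    Topology.IsLocallyConstructible (MoreMor.sectionComponents f g) := by
  refine isLocallyConstructible_of_openCover _ fun x ↦ ?_
  obtain ⟨V, hV, hxV, -⟩ := exists_isAffineOpen_mem_and_subset (X := Y) (U := ⊤) (x := f.base x) trivial
  refine ⟨f ⁻¹ᵁ V, hxV, ?_⟩
  let f' : (f ⁻¹ᵁ V).toScheme ⟶ Spec Γ(Y, V) := f ∣_ V ≫ hV.isoSpec.hom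
  let σ : Spec Γ(Y, V) ⟶ Y := hV.fromSpec
  have hsq : IsPullback (f ⁻¹ᵁ V).ι f' f σ :=
    (isPullback_morphismRestrict f V).flip.of_iso (Iso.refl _) (Iso.refl _) hV.isoSpec (Iso.refl _)
      (by simp) (by simp [f']) (by simp) (by simp [σ, hV.isoSpec_hom_fromSpec])
  let g' : Spec Γ(Y, V) ⟶ (f ⁻¹ᵁ V).toScheme :=
    hsq.lift (σ ≫ g) (𝟙 _) (by rw [Category.assoc, hg, Category.comp_id, Category.id_comp])
  have hg' : g' ≫ f' = 𝟙 _ := hsq.lift_snd _ _ _
  have := isLocallyConstructible_sectionComponents_affine (A := Γ(Y, V)) f' g' hg'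
  rwa [sectionComponents_baseChange f g hg hsq hg' (hsq.lift_fst _ _ _)] at this

end Groth.Agent.GeomFib
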