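import Groth.Agent.GeomFib.NearFamily
import Groth.Agent.S1333
import Groth.Agent.S0389

/-!
# The dimension of the fibres near a point along its closure
-/

set_option autoImplicit false
set_option linter.style.haveILetI false

universe u

open CategoryTheory AlgebraicGeometry Limits TopologicalSpace TensorProduct

namespace Groth.Agent.GeomFib

/-- Over a domain, a lower bound for the dimension of the generic fibre holds nearby, for an affine source. -/
theorem exists_forall_natCast_le_dim_affine {A B : Type u} [CommRing A] [IsDomain A] [CommRing B] [Algebra A B]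
    [Algebra.FiniteType A B] (n : ℕ)
    (h : (n : WithBot ℕ∞) ≤ topologicalKrullDim ↥((Spec.map (CommRingCat.ofHom (algebraMap A B))).fiber (gpt (A := A)))) :
    ∃ a : A, a ≠ 0 ∧ ∀ t : PrimeSpectrum A, a ∉ t.asIdeal →
      (n : WithBot ℕ∞) ≤ topologicalKrullDim ↥((Spec.map (CommRingCat.ofHom (algebraMap A B))).fiber t) := by
  obtain ⟨f, hf, -, -, hfp, -⟩ := S0389.result (R := A) (S := B) (M := B)
  let R := Localization.Away f
  let σ : Spec (CommRingCat.of R) ⟶ Spec (CommRingCat.of A) := Spec.map (CommRingCat.ofHom (algebraMap A R))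
  let φ := Spec.map (CommRingCat.ofHom (algebraMap A B))
  let g := pullback.snd φ σ
  have : LocallyOfFiniteType φ := (HasRingHomProperty.Spec_iff (P := @LocallyOfFiniteType)).mpr
    (RingHom.finiteType_algebraMap.mpr inferInstance)
  have hsq := (isPullback_SpecMap_of_isPushout _ _ _ _ (CommRingCat.isPushout_tensorProduct A R B)).flip
  have : LocallyOfFinitePresentation g := by
    have h1 : LocallyOfFinitePresentation (Spec.map (CommRingCat.ofHom (Algebra.TensorProduct.includeLeftRingHom : R →+* R ⊗[A] B))) :=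
      (HasRingHomProperty.Spec_iff (P := @LocallyOfFinitePresentation)).mpr (RingHom.finitePresentation_algebraMap.mpr hfp)
    exact (MorphismProperty.cancel_left_of_respectsIso @LocallyOfFinitePresentation hsq.isoPullback.hom g).mp
      (by rw [IsPullback.isoPullback_hom_snd]; exact h1)
  have hbc : ∀ r, topologicalKrullDim ↥(g.fiber r) = topologicalKrullDim ↥(φ.fiber (σ r)) :=
    DimField.dim_fiber_eq_of_isPullback (IsPullback.of_hasPullback φ σ)
  have : IsDomain R := IsLocalization.isDomain_localization (powers_le_nonZeroDivisors_of_noZeroDivisors hf)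
  let η : ↥(Spec (CommRingCat.of R)) := gpt (A := R)
  have hη : σ η = gpt (A := A) := PrimeSpectrum.ext ((RingHom.ker_eq_comap_bot _).symm.trans
    ((RingHom.injective_iff_ker_eq_bot _).mp (IsLocalization.injective R (powers_le_nonZeroDivisors_of_noZeroDivisors hf))))
  have hcons := (S1333.result g (topologicalKrullDim ↥(g.fiber η))).isConstructible
  obtain ⟨z, hz⟩ := DimField.interior_nonempty_of_genericPoint_mem (S := Spec (CommRingCat.of R)) hcons
    (show topologicalKrullDim ↥(g.fiber (genericPoint ↥(Spec (CommRingCat.of R)))) = topologicalKrullDim ↥(g.fiber η) by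
      rw [genericPoint_eq_bot_of_affine]; rfl)
  have hopen := σ.isOpenEmbedding.isOpenMap _ (isOpen_interior (s := {r | topologicalKrullDim ↥(g.fiber r) = topologicalKrullDim ↥(g.fiber η)}))
  obtain ⟨_, ⟨a, rfl⟩, haz, hsub⟩ := PrimeSpectrum.isTopologicalBasis_basic_opens.exists_subset_of_mem_open
    (show σ z ∈ _ from Set.mem_image_of_mem _ hz) hopen
  refine ⟨a, fun ha ↦ ?_, fun t ht ↦ ?_⟩
  · exact haz (show a ∈ (σ z : PrimeSpectrum A).asIdeal from ha ▸ Ideal.zero_mem _)
  · obtain ⟨r, hr, hrt⟩ := hsub ht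
    have h1 : topologicalKrullDim ↥(g.fiber r) = topologicalKrullDim ↥(g.fiber η) := (interior_subset hr :)
    rw [show t = σ r from hrt.symm, ← hbc, h1, hbc, hη]
    exact h

variable {X Y : Scheme.{u}} (f : X ⟶ Y) [LocallyOfFiniteType f]

/-- A lower bound for the dimension of a fibre holds near the point on its closure. -/
theorem exists_open_natCast_le_dim (y : Y) (n : ℕ) (h : (n : WithBot ℕ∞) ≤ topologicalKrullDim ↥(f.fiber y)) :
    ∃ O : Y.Opens, y ∈ O ∧ ∀ y' ∈ O, y ⤳ y' → (n : WithBot ℕ∞) ≤ topologicalKrullDim ↥(f.fiber y') := by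
  obtain ⟨A, _, _, σ, hσ, hO⟩ := exists_integral_chart y
  let g := pullback.snd f σ
  have hbc : ∀ t, topologicalKrullDim ↥(g.fiber t) = topologicalKrullDim ↥(f.fiber (σ t)) :=
    DimField.dim_fiber_eq_of_isPullback (IsPullback.of_hasPullback f σ)
  have h' : (n : WithBot ℕ∞) ≤ topologicalKrullDim ↥(g.fiber (gpt (A := A))) := by
    rw [hbc, show σ (gpt (A := A)) = y from hσ]
    exact h
  obtain ⟨x, hx, hxη⟩ := (DimField.dim_fiber_le_iff g _).mp h'
  obtain ⟨W, hW, hxW, -⟩ := exists_isAffineOpen_mem_and_subset (X := pullback f σ) (U := ⊤) (x := x) trivial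
  have hchain := (Unibranch.natCast_le_fibreDimAt_iff g x).mp hx W hxW
  rw [hxη] at hchain
  let φ := Spec.preimage (hW.fromSpec ≫ g)
  have hφ : Spec.map φ = hW.fromSpec ≫ g := Spec.map_preimage _
  have hφft : φ.hom.FiniteType := (HasRingHomProperty.Spec_iff (P := @LocallyOfFiniteType)).mp
    (by rw [hφ]; infer_instance)
  letI := φ.hom.toAlgebra
  have : Algebra.FiniteType A Γ(pullback f σ, W) := hφft
  -- fibres of the chart
  have hj : ∀ t, ((n : WithBot ℕ∞) ≤ topologicalKrullDim ↥((hW.fromSpec ≫ g).fiber t)) ↔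
      Unibranch.HasChain g (W : Set ↥(pullback f σ)) t n := fun t ↦ by
    refine Unibranch.natCast_le_topologicalKrullDim_iff g
      (j := hW.fromSpec ∘ (hW.fromSpec ≫ g).fiberι t) (hW.fromSpec.isEmbedding.comp ((hW.fromSpec ≫ g).fiberι t).isEmbedding) ?_
    rw [Set.range_comp, Scheme.Hom.range_fiberι]
    ext z
    constructor
    · rintro ⟨w, hw, rfl⟩
      exact ⟨hW.range_fromSpec.le ⟨w, rfl⟩, hw⟩
    · rintro ⟨hzW, hzt⟩
      obtain ⟨w, rfl⟩ := hW.range_fromSpec.ge hzW
      exact ⟨w, hzt, rfl⟩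
  obtain ⟨a, ha, hk⟩ := exists_forall_natCast_le_dim_affine (A := A) (B := Γ(pullback f σ, W)) n (by
    show _ ≤ topologicalKrullDim ↥((Spec.map φ).fiber _)
    rw [hφ]
    exact (hj _).mpr hchain)
  obtain ⟨O, hyO, hO⟩ := hO a ha
  refine ⟨O, hyO, fun y' hy' hs ↦ ?_⟩
  obtain ⟨t, ht, rfl⟩ := hO y' hy' hs
  have h2 : (n : WithBot ℕ∞) ≤ topologicalKrullDim ↥((Spec.map φ).fiber t) := hk t ht
  rw [hφ, hj] at h2
  rw [← hbc]
  exact (Unibranch.natCast_le_topologicalKrullDim_iff g (g.fiberι t).isEmbedding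
    (by rw [Scheme.Hom.range_fiberι, Set.univ_inter])).mpr (h2.mono (Set.subset_univ _))

/-- An upper bound for the dimension of a fibre holds near the point on its closure. -/
theorem exists_open_dim_le [QuasiCompact f] (y : Y) (n : ℕ) (h : topologicalKrullDim ↥(f.fiber y) ≤ (n : WithBot ℕ∞)) :
    ∃ O : Y.Opens, y ∈ O ∧ ∀ y' ∈ O, y ⤳ y' → topologicalKrullDim ↥(f.fiber y') ≤ (n : WithBot ℕ∞) := by
  obtain ⟨O, hyO, hO⟩ := exists_open_forall_generalization f y
    {x : X | ((n + 1 : ℕ) : WithBot ℕ∞) ≤ FlatMor.fibreDimAt f x} (DimField.isClosed_le_fibreDimAt f (n + 1))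
  refine ⟨O, hyO, fun y' hy' hs ↦ Unibranch.natCast_le_iff_of_le_iff.mpr fun k hk ↦ ?_⟩
  by_contra hkn
  obtain ⟨x, hx, hxy⟩ := (DimField.dim_fiber_le_iff f y').mp (le_trans (by exact_mod_cast not_le.mp hkn) hk :
    ((n + 1 : ℕ) : WithBot ℕ∞) ≤ topologicalKrullDim ↥(f.fiber y'))
  obtain ⟨x₀, hx₀, -, hx₀y⟩ := hO y' hy' hs x hx hxy
  have h1 := ((DimField.dim_fiber_le_iff f y).mpr ⟨x₀, hx₀, hx₀y⟩).trans h
  exact absurd (show n + 1 ≤ n by exact_mod_cast h1) (by omega)

end Groth.Agent.GeomFib
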