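import Groth.Agent.GeomIrredSpread.Spread
import Groth.Agent.GoingDown.Algebra
import Groth.Agent.S0389

/-!
# Spreading out over an arbitrary domain
-/

set_option autoImplicit false
set_option linter.style.haveILetI false
set_option linter.unusedSectionVars false

universe u

open PrimeSpectrum TensorProduct

namespace Groth.Agent.GeomFib

open GeomIrredSpread

variable {A B : Type u} [CommRing A] [CommRing B] [Algebra A B]

theorem algebraMap_tensor_eq {k : Type u} [CommRing k] [Algebra A k] (a : A) :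
    algebraMap A (B ⊗[A] k) a = (1 : B) ⊗ₜ[A] algebraMap A k a := by
  rw [Algebra.algebraMap_eq_smul_one, Algebra.algebraMap_eq_smul_one, Algebra.TensorProduct.one_def,
    TensorProduct.tmul_smul]

/-- A prime over the kernel of a map to a field gives a prime of the tensor product. -/
theorem exists_prime_over {k : Type u} [Field k] [Algebra A k] (p : Ideal B) [p.IsPrime]
    (hp : p.comap (algebraMap A B) = RingHom.ker (algebraMap A k)) :
    ∃ P : Ideal (B ⊗[A] k), P.IsPrime ∧ P.comap (algebraMap B (B ⊗[A] k)) = p := by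
  let e := Algebra.TensorProduct.comm A k B
  obtain ⟨P, hP, -, hPq⟩ := GoingDown.exists_prime_tensor (A := A) (B := B) (D := A) (R := k)
    (p.comap (Algebra.TensorProduct.lid A B).toRingEquiv.toRingHom) (⊥ : Ideal k) (by
      rw [Ideal.comap_comap, ← RingHom.ker_eq_comap_bot, ← hp]
      congr 1
      ext a
      show algebraMap A B a = Algebra.TensorProduct.lid A B (algebraMap A (A ⊗[A] B) a)
      exact ((Algebra.TensorProduct.lid A B).commutes a).symm)
  refine ⟨P.comap e.symm.toRingEquiv.toRingHom, hP.comap _, Ideal.ext fun b ↦ ?_⟩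
  have h1 := congrArg (fun I : Ideal (A ⊗[A] B) ↦ (1 : A) ⊗ₜ[A] b ∈ I) hPq
  simp only [Ideal.mem_comap] at h1
  show e.symm (b ⊗ₜ[A] (1 : k)) ∈ P ↔ b ∈ p
  rw [show e.symm (b ⊗ₜ[A] (1 : k)) = (1 : k) ⊗ₜ[A] b from rfl]
  convert! Iff.of_eq h1 using 2 <;> simp

/-- Over a nonempty open of the spectrum of a domain, primes go down to the generic fibre, and the
fibres are empty or not as the generic fibre is. -/
theorem exists_flat_spread [IsDomain A] [Algebra.FiniteType A B] :
    ∃ f : A, f ≠ 0 ∧
      (∀ p : Ideal B, p.IsPrime → algebraMap A B f ∉ p →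
        ∃ p' : Ideal B, p'.IsPrime ∧ p' ≤ p ∧ p'.comap (algebraMap A B) = ⊥) ∧
      ∀ (k : Type u) [Field k] [Algebra A k], algebraMap A k f ≠ 0 →
        (∃ p : Ideal B, p.IsPrime ∧ p.comap (algebraMap A B) = ⊥) → Nontrivial (B ⊗[A] k) := by
  obtain ⟨f, hf, -, hfree, -⟩ := S0389.result (R := A) (S := B) (M := B)
  let R := Localization.Away f
  let T := R ⊗[A] B
  have hinjR : Function.Injective (algebraMap A R) :=
    IsLocalization.injective R (powers_le_nonZeroDivisors_of_noZeroDivisors hf)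
  have : IsDomain R := IsLocalization.isDomain_localization (powers_le_nonZeroDivisors_of_noZeroDivisors hf)
  let ι : B →+* T := (Algebra.TensorProduct.includeRight (R := A) (A := R) (B := B)).toRingHom
  have hιa : ∀ a : A, ι (algebraMap A B a) = algebraMap R T (algebraMap A R a) := fun a ↦ by
    rw [← IsScalarTower.algebraMap_apply]
    exact (Algebra.TensorProduct.includeRight (R := A) (A := R) (B := B)).commutes a
  -- primes off `f` lift
  have hlift : ∀ p : Ideal B, p.IsPrime → algebraMap A B f ∉ p →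
      ∃ P : Ideal T, P.IsPrime ∧ P.comap ι = p := by
    intro p hp hfp
    have hu : IsUnit (algebraMap A p.ResidueField f) := by
      rw [IsScalarTower.algebraMap_apply A B p.ResidueField, isUnit_iff_ne_zero]
      exact fun h0 ↦ hfp (Ideal.algebraMap_residueField_eq_zero.mp h0)
    let φ : T →ₐ[A] p.ResidueField := Algebra.TensorProduct.lift
      (IsLocalization.liftAlgHom (M := Submonoid.powers f) (f := Algebra.ofId A p.ResidueField) (by
        rintro ⟨_, n, rfl⟩
        exact (map_pow (Algebra.ofId A p.ResidueField) f n).symm ▸ hu.pow n))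
      (IsScalarTower.toAlgHom A B p.ResidueField) fun _ _ ↦ Commute.all _ _
    refine ⟨RingHom.ker φ.toRingHom, RingHom.ker_isPrime _, ?_⟩
    ext b
    show φ ((1 : R) ⊗ₜ[A] b) = 0 ↔ b ∈ p
    rw [Algebra.TensorProduct.lift_tmul, map_one, one_mul]
    exact Ideal.algebraMap_residueField_eq_zero
  refine ⟨f, hf, fun p hp hfp ↦ ?_, fun k _ _ hfk ⟨p, hp, hpb⟩ ↦ ?_⟩
  · obtain ⟨P, hP, rfl⟩ := hlift p hp hfp
    have : Algebra.HasGoingDown R T := Algebra.HasGoingDown.of_flat
    have : P.LiesOver (P.comap (algebraMap R T)) := ⟨rfl⟩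
    obtain ⟨P', hle, hP', hover⟩ := Ideal.exists_ideal_le_liesOver_of_le (p := (⊥ : Ideal R))
      (q := P.comap (algebraMap R T)) (Q := P) bot_le
    refine ⟨P'.comap ι, hP'.comap _, Ideal.comap_mono hle, eq_bot_iff.mpr fun a ha ↦ ?_⟩
    have h1 : algebraMap A R a ∈ P'.comap (algebraMap R T) := by
      show algebraMap R T (algebraMap A R a) ∈ P'
      rw [← hιa]
      exact ha
    rw [show P'.comap (algebraMap R T) = ⊥ from hover.over.symm, Ideal.mem_bot] at h1
    exact hinjR (h1.trans (map_zero _).symm)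
  · have hfp : algebraMap A B f ∉ p := fun h0 ↦ hf (by
      have h1 : f ∈ p.comap (algebraMap A B) := h0
      rwa [hpb] at h1)
    obtain ⟨P, hP, -⟩ := hlift p hp hfp
    have : Nontrivial T := (PrimeSpectrum.nonempty_iff_nontrivial (R := T)).mp ⟨⟨P, hP⟩⟩
    have hu : IsUnit (algebraMap A k f) := hfk.isUnit
    let ψ : R →+* k := IsLocalization.Away.lift f hu
    have : (RingHom.ker ψ).IsPrime := RingHom.ker_isPrime _
    obtain ⟨Q, hQ⟩ := PrimeSpectrum.comap_surjective_of_faithfullyFlat (A := R) (B := T)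
      ⟨RingHom.ker ψ, inferInstance⟩
    have hQp : (Q.asIdeal.comap ι).comap (algebraMap A B) = RingHom.ker (algebraMap A k) := by
      ext a
      show ι (algebraMap A B a) ∈ Q.asIdeal ↔ algebraMap A k a = 0
      rw [hιa, ← show ψ (algebraMap A R a) = algebraMap A k a from IsLocalization.Away.lift_eq f hu a]
      exact SetLike.ext_iff.mp (congrArg PrimeSpectrum.asIdeal hQ) (algebraMap A R a)
    have := Q.2.comap ι
    obtain ⟨P', hP', -⟩ := exists_prime_over (k := k) (Q.asIdeal.comap ι) hQp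
    exact (PrimeSpectrum.nonempty_iff_nontrivial (R := B ⊗[A] k)).mp ⟨⟨P', hP'⟩⟩

/-- Geometric irreducibility of the generic fibre of an algebra of finite type over a domain spreads out to the fields at which some nonzero element is invertible. -/
theorem exists_forall_irreducibleSpace_domain [IsDomain A]
    [Algebra.FiniteType A B] {Ω : Type u} [Field Ω] [IsAlgClosed Ω]
    [Algebra A Ω] (hΩinj : Function.Injective (algebraMap A Ω))
    (hΩ : IrreducibleSpace (PrimeSpectrum (B ⊗[A] Ω))) :
    ∃ f : A, f ≠ 0 ∧ ∀ (k : Type u) [Field k] [Algebra A k], algebraMap A k f ≠ 0 →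
      IrreducibleSpace (PrimeSpectrum (B ⊗[A] k)) := by
  classical
  -- points of the generic fibre lift to the geometric generic fibre
  have hlift : ∀ q : Ideal B, q.IsPrime → q.comap (algebraMap A B) = ⊥ →
      ∃ P : PrimeSpectrum (B ⊗[A] Ω), P.asIdeal.comap (algebraMap B (B ⊗[A] Ω)) = q := by
    intro q hq hqb
    letI : Algebra A (PUnit.{u + 1}) := inferInstance
    let e := Algebra.TensorProduct.comm A Ω B
    have hm : (⊥ : Ideal Ω).comap (algebraMap A Ω) = (q.comap (Algebra.TensorProduct.lid A B).toRingEquiv.toRingHom).comap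
        (algebraMap A (A ⊗[A] B)) := by
      rw [Ideal.comap_comap, ← RingHom.ker_eq_comap_bot, (RingHom.injective_iff_ker_eq_bot _).mp hΩinj, ← hqb]
      congr 1
      ext a
      show algebraMap A B a = Algebra.TensorProduct.lid A B (algebraMap A (A ⊗[A] B) a)
      exact ((Algebra.TensorProduct.lid A B).commutes a).symm
    obtain ⟨P, hP, -, hPq⟩ := GoingDown.exists_prime_tensor (A := A) (B := B) (D := A) (R := Ω)
      (q.comap (Algebra.TensorProduct.lid A B).toRingEquiv.toRingHom) (⊥ : Ideal Ω) hm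
    refine ⟨⟨P.comap e.symm.toRingEquiv.toRingHom, hP.comap _⟩, Ideal.ext fun b ↦ ?_⟩
    have h1 := congrArg (fun I : Ideal (A ⊗[A] B) ↦ (1 : A) ⊗ₜ[A] b ∈ I) hPq
    simp only [Ideal.mem_comap] at h1
    show e.symm (b ⊗ₜ[A] (1 : Ω)) ∈ P ↔ b ∈ q
    rw [show e.symm (b ⊗ₜ[A] (1 : Ω)) = (1 : Ω) ⊗ₜ[A] b from rfl]
    convert! Iff.of_eq h1 using 2 <;> simp
  -- the generic point of the generic fibre
  have := hΩ.toNonempty
  obtain ⟨P₀, hP₀⟩ := QuasiSober.sober (IrreducibleSpace.isIrreducible_univ (PrimeSpectrum (B ⊗[A] Ω)))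
    isClosed_univ
  let q := P₀.asIdeal.comap (algebraMap B (B ⊗[A] Ω))
  have hqP : ∀ P : PrimeSpectrum (B ⊗[A] Ω), q ≤ P.asIdeal.comap (algebraMap B (B ⊗[A] Ω)) := fun P ↦
    Ideal.comap_mono ((PrimeSpectrum.le_iff_specializes _ _).mpr (hP₀.specializes trivial))
  have hqA : q.comap (algebraMap A B) = ⊥ := by
    have htr : (algebraMap B (B ⊗[A] Ω)).comp (algebraMap A B) =
        ((Algebra.TensorProduct.includeRight (R := A) (A := B) (B := Ω)).toRingHom).comp (algebraMap A Ω) := by
      ext a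
      show algebraMap A B a ⊗ₜ[A] (1 : Ω) = (1 : B) ⊗ₜ[A] algebraMap A Ω a
      rw [Algebra.algebraMap_eq_smul_one, Algebra.algebraMap_eq_smul_one, TensorProduct.smul_tmul]
    rw [Ideal.comap_comap, htr, ← Ideal.comap_comap,
      (Ideal.eq_bot_or_top (P₀.asIdeal.comap _)).resolve_right (Ideal.comap_ne_top _ P₀.2.ne_top),
      ← RingHom.ker_eq_comap_bot, (RingHom.injective_iff_ker_eq_bot _).mp hΩinj]
  obtain ⟨g, hg, hgd, -⟩ := exists_flat_spread (A := A) (B := B)
  have : q.IsPrime := P₀.2.comap _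
  -- the reduction to the domain `B ⧸ q`
  have hinjq : Function.Injective (algebraMap A (B ⧸ q)) := by
    rw [injective_iff_map_eq_zero]
    intro c hc
    have : c ∈ q.comap (algebraMap A B) := Ideal.Quotient.eq_zero_iff_mem (I := q).mp hc
    rwa [hqA, Ideal.mem_bot] at this
  have hhom : ∀ (k : Type u) [Field k] [Algebra A k],
      (∀ P : PrimeSpectrum (B ⊗[A] k), q ≤ P.asIdeal.comap (algebraMap B (B ⊗[A] k))) →
      IsHomeomorph (comap (Algebra.TensorProduct.map (Ideal.Quotient.mkₐ A q) (AlgHom.id A k)).toRingHom) := by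
    intro k _ _ hk
    refine PrimeSpectrum.isHomeomorph_comap _ (fun z ↦ ⟨1, one_pos, ?_⟩) ?_
    · rw [pow_one]
      exact (TensorProduct.map_surjective Ideal.Quotient.mk_surjective (Function.surjective_id)) z
    · rw [nilradical_eq_sInf]
      refine le_sInf fun P hP ↦ ?_
      have : P.IsPrime := hP
      intro z hz
      have h1 : RingHom.ker (Algebra.TensorProduct.map (Ideal.Quotient.mkₐ A q) (AlgHom.id A k)) =
          (RingHom.ker (Ideal.Quotient.mkₐ A q)).map (Algebra.TensorProduct.includeLeft (R := A) (B := k)) :=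
        Algebra.TensorProduct.rTensor_ker _ Ideal.Quotient.mk_surjective
      have h2 : z ∈ RingHom.ker (Algebra.TensorProduct.map (Ideal.Quotient.mkₐ A q) (AlgHom.id A k)) := hz
      rw [h1] at h2
      refine (Ideal.map_le_iff_le_comap.mpr fun b hb ↦ ?_) h2
      exact hk ⟨P, hP⟩ (Ideal.Quotient.eq_zero_iff_mem.mp hb)
  have hΩ' : IrreducibleSpace (PrimeSpectrum ((B ⧸ q) ⊗[A] Ω)) := by
    let H := IsHomeomorph.homeomorph _ (hhom Ω hqP)
    exact Function.Surjective.irreducibleSpace H.symm.continuous H.symm.surjective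
  obtain ⟨f, hf, hirr⟩ := exists_forall_irreducibleSpace hinjq hΩinj hΩ'
  refine ⟨f * g, mul_ne_zero hf hg, fun k _ _ hk ↦ ?_⟩
  rw [map_mul, mul_ne_zero_iff] at hk
  have hqk : ∀ P : PrimeSpectrum (B ⊗[A] k), q ≤ P.asIdeal.comap (algebraMap B (B ⊗[A] k)) := by
    intro P
    have hPg : algebraMap A B g ∉ P.asIdeal.comap (algebraMap B (B ⊗[A] k)) := fun h0 ↦ by
      refine P.2.ne_top (Ideal.eq_top_of_isUnit_mem _ h0 ?_)
      rw [← IsScalarTower.algebraMap_apply, algebraMap_tensor_eq]
      exact hk.2.isUnit.map (Algebra.TensorProduct.includeRight (R := A) (A := B) (B := k))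
    obtain ⟨p', hp', hle, hbot⟩ := hgd _ (P.2.comap _) hPg
    obtain ⟨P', hP'⟩ := hlift p' hp' hbot
    exact ((hP' ▸ hqP P' : q ≤ p')).trans hle
  let H := IsHomeomorph.homeomorph _ (hhom k hqk)
  have := hirr k hk.1
  exact Function.Surjective.irreducibleSpace H.continuous H.surjective

end Groth.Agent.GeomFib
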