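import Mathlib

/-!
# Counting components from a finite irreducible closed cover
-/

set_option autoImplicit false

universe u v

namespace Groth.Agent.GeomFib

variable {α : Type u} [TopologicalSpace α] {ι : Type v} [Finite ι] (S : ι → Set α)

/-- A finite cover by irreducible closed sets without containments lists the irreducible components. -/
theorem irreducibleComponents_eq_range (hcl : ∀ i, IsClosed (S i)) (hirr : ∀ i, IsIrreducible (S i))
    (hcov : ∀ x, ∃ i, x ∈ S i) (hno : ∀ i j, S i ⊆ S j → i = j) :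
    irreducibleComponents α = Set.range S ∧ Function.Injective S := by
  classical
  cases nonempty_fintype ι
  have key : ∀ T : Set α, IsIrreducible T → ∃ i, T ⊆ S i := fun T hT ↦ by
    obtain ⟨z, hz, hz'⟩ := (isIrreducible_iff_sUnion_isClosed.mp hT) (Finset.univ.image S)
      (fun z hz ↦ by obtain ⟨i, -, rfl⟩ := Finset.mem_image.mp hz; exact hcl i)
      (fun x _ ↦ by
        obtain ⟨i, hi⟩ := hcov x
        exact ⟨S i, Finset.mem_coe.mpr (Finset.mem_image_of_mem S (Finset.mem_univ i)), hi⟩)
    obtain ⟨i, -, rfl⟩ := Finset.mem_image.mp hz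
    exact ⟨i, hz'⟩
  refine ⟨Set.Subset.antisymm (fun T hT ↦ ?_) ?_, fun i j h ↦ hno i j h.le⟩
  · obtain ⟨i, hi⟩ := key T hT.1
    exact ⟨i, (hT.2 (hirr i) hi).antisymm hi⟩
  · rintro _ ⟨i, rfl⟩
    refine ⟨hirr i, fun T hT hle ↦ ?_⟩
    obtain ⟨j, hj⟩ := key T hT
    rw [hno i j (hle.trans hj)]
    exact hj

/-- Two members are related if they meet. -/
def Meet : ι → ι → Prop := fun i j ↦ (S i ∩ S j).Nonempty

/-- Connected components from a finite cover by preconnected closed nonempty sets. -/
theorem card_connectedComponents_eq_quot (hcl : ∀ i, IsClosed (S i)) (hirr : ∀ i, IsPreconnected (S i))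
    (hne : ∀ i, (S i).Nonempty) (hcov : ∀ x, ∃ i, x ∈ S i) :
    ENat.card (ConnectedComponents α) = ENat.card (Quot (Meet S)) := by
  choose p hp using hne
  have hwell : ∀ i j, Meet S i j → ConnectedComponents.mk (p i) = ConnectedComponents.mk (p j) := by
    rintro i j ⟨z, hzi, hzj⟩
    have h1 := (hirr i).subset_connectedComponent hzi (hp i)
    have h2 := (hirr j).subset_connectedComponent hzj (hp j)
    rw [ConnectedComponents.coe_eq_coe, ← connectedComponent_eq h1, ← connectedComponent_eq h2]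
  refine (ENat.card_congr (Equiv.ofBijective (Quot.lift (fun i ↦ ConnectedComponents.mk (p i)) hwell) ⟨?_, ?_⟩)).symm
  · intro c d h
    obtain ⟨i, rfl⟩ := Quot.exists_rep c
    obtain ⟨j, rfl⟩ := Quot.exists_rep d
    let U := ⋃ m ∈ {m | Quot.mk (Meet S) m = Quot.mk (Meet S) i}, S m
    have hU : IsClopen U := by
      refine ⟨Set.Finite.isClosed_biUnion (Set.toFinite _) fun m _ ↦ hcl m, ?_⟩
      have heq : U = (⋃ m ∈ {m | Quot.mk (Meet S) m ≠ Quot.mk (Meet S) i}, S m)ᶜ := by
        ext x
        simp only [U, Set.mem_iUnion, Set.mem_compl_iff, Set.mem_setOf_eq, exists_prop, not_exists, not_and]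
        refine ⟨fun ⟨m, hm, hxm⟩ n hn hxn ↦ hn ((Quot.sound ⟨x, hxn, hxm⟩).trans hm), fun h ↦ ?_⟩
        obtain ⟨m, hm⟩ := hcov x
        exact ⟨m, by_contra fun h' ↦ h m h' hm, hm⟩
      rw [heq]
      exact (Set.Finite.isClosed_biUnion (Set.toFinite _) fun m _ ↦ hcl m).isOpen_compl
    have hj : p j ∈ U := hU.connectedComponent_subset
      (Set.mem_biUnion (show i ∈ {m | Quot.mk (Meet S) m = Quot.mk (Meet S) i} from rfl) (hp i))
      (ConnectedComponents.coe_eq_coe'.mp (show ConnectedComponents.mk (p j) = ConnectedComponents.mk (p i) from h.symm))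
    obtain ⟨m, hm, hjm⟩ := Set.mem_iUnion₂.mp hj
    exact ((Quot.sound ⟨p j, hp j, hjm⟩).trans hm).symm
  · intro c
    obtain ⟨x, rfl⟩ := ConnectedComponents.surjective_coe c
    obtain ⟨i, hi⟩ := hcov x
    exact ⟨Quot.mk _ i, ConnectedComponents.coe_eq_coe'.mpr ((hirr i).subset_connectedComponent hi (hp i))⟩

/-- The same meeting pattern gives the same number of connected components. -/
theorem card_connectedComponents_eq_of_pattern {β : Type u} [TopologicalSpace β] (T : ι → Set β)
    (hS : ∀ i, IsClosed (S i) ∧ IsIrreducible (S i)) (hT : ∀ i, IsClosed (T i) ∧ IsIrreducible (T i))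
    (hSc : ∀ x, ∃ i, x ∈ S i) (hTc : ∀ x, ∃ i, x ∈ T i)
    (h : ∀ i j, (S i ∩ S j).Nonempty ↔ (T i ∩ T j).Nonempty) :
    ENat.card (ConnectedComponents α) = ENat.card (ConnectedComponents β) := by
  have e : Meet S = Meet T := funext fun i ↦ funext fun j ↦ propext (h i j)
  rw [card_connectedComponents_eq_quot S (fun i ↦ (hS i).1) (fun i ↦ (hS i).2.isConnected.isPreconnected)
      (fun i ↦ (hS i).2.nonempty) hSc,
    card_connectedComponents_eq_quot T (fun i ↦ (hT i).1) (fun i ↦ (hT i).2.isConnected.isPreconnected)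
      (fun i ↦ (hT i).2.nonempty) hTc, e]

end Groth.Agent.GeomFib
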