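import Groth.Agent.GeomFib.Pieces
import Groth.Agent.GeomFib.FieldExt
import Groth.Agent.GeomFib.TopCount

/-!
# Components of the geometric generic fibre over a finitely generated extension of the base
-/

set_option autoImplicit false
set_option linter.style.haveILetI false
set_option linter.unusedSectionVars false

universe u

open CategoryTheory AlgebraicGeometry Limits TopologicalSpace TensorProduct

namespace Groth.Agent.GeomFib

variable {A : Type u} [CommRing A] {X : Scheme.{u}} (f : X ⟶ Spec (CommRingCat.of A))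

/-- The map of base changes along `A → C → L`. -/
noncomputable def bcMap (C L : Type u) [CommRing C] [CommRing L] [Algebra A C] [Algebra A L] [Algebra C L]
    [IsScalarTower A C L] :
    pullback f (Spec.map (CommRingCat.ofHom (algebraMap A L))) ⟶
      pullback f (Spec.map (CommRingCat.ofHom (algebraMap A C))) :=
  pullback.lift (pullback.fst f _) (pullback.snd f _ ≫ Spec.map (CommRingCat.ofHom (algebraMap C L))) (by
    rw [Category.assoc, ← Spec.map_comp, ← CommRingCat.ofHom_comp, ← IsScalarTower.algebraMap_eq,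
      pullback.condition])

theorem bcMap_fst (C L : Type u) [CommRing C] [CommRing L] [Algebra A C] [Algebra A L] [Algebra C L]
    [IsScalarTower A C L] : bcMap f C L ≫ prj f C = prj f L :=
  pullback.lift_fst _ _ _

variable {B : Type u} [CommRing B] [Algebra A B] {i : Spec (CommRingCat.of B) ⟶ X}
  (hi : i ≫ f = Spec.map (CommRingCat.ofHom (algebraMap A B)))

/-- The chart of the base change given by an affine piece. -/
noncomputable def chart (k : Type u) [CommRing k] [Algebra A k] :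
    Spec (CommRingCat.of (B ⊗[A] k)) ⟶ pullback f (Spec.map (CommRingCat.ofHom (algebraMap A k))) :=
  (pullbackSpecIso A B k).inv ≫ pullback.map _ _ f (Spec.map (CommRingCat.ofHom (algebraMap A k))) i (𝟙 _) (𝟙 _)
    (by rw [Category.comp_id, hi]) (by rw [Category.comp_id, Category.id_comp])

theorem range_chart (k : Type u) [CommRing k] [Algebra A k] :
    Set.range (chart f hi k) = prj f k ⁻¹' Set.range i := by
  rw [chart]
  refine ((pullbackSpecIso A B k).inv.surjective.range_comp (pullback.map _ _ f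
    (Spec.map (CommRingCat.ofHom (algebraMap A k))) i (𝟙 _) (𝟙 _) (by rw [Category.comp_id, hi])
    (by rw [Category.comp_id, Category.id_comp]))).trans ?_
  rw [Scheme.Pullback.range_map]
  simp

theorem isEmbedding_chart [IsImmersion i] (k : Type u) [CommRing k] [Algebra A k] :
    Topology.IsEmbedding (chart f hi k) := by
  have : IsImmersion (pullback.map _ _ f (Spec.map (CommRingCat.ofHom (algebraMap A k))) i (𝟙 _) (𝟙 _)
      (by rw [Category.comp_id, hi]) (by rw [Category.comp_id, Category.id_comp])) :=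
    MorphismProperty.pullbackMap (P := @IsImmersion) inferInstance inferInstance hi.symm (Category.id_comp _).symm
  rw [chart]
  exact (Scheme.Hom.isEmbedding _)

theorem chart_bcMap (C L : Type u) [CommRing C] [CommRing L] [Algebra A C] [Algebra A L] [Algebra C L]
    [IsScalarTower A C L] :
    chart f hi L ≫ bcMap f C L = Spec.map (CommRingCat.ofHom
      (Algebra.TensorProduct.map (AlgHom.id A B) (IsScalarTower.toAlgHom A C L)).toRingHom) ≫ chart f hi C := by
  apply pullback.hom_ext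
  · simp only [chart, bcMap, Category.assoc, pullback.lift_fst, pullbackSpecIso_inv_fst_assoc]
    rw [← Spec.map_comp_assoc, ← CommRingCat.ofHom_comp]
    congr 3
    ext b
    simp
  · simp only [chart, bcMap, Category.assoc, pullback.lift_snd, pullback.lift_snd_assoc, Category.comp_id,
      pullbackSpecIso_inv_snd, pullbackSpecIso_inv_snd_assoc]
    rw [← Spec.map_comp, ← Spec.map_comp, ← CommRingCat.ofHom_comp, ← CommRingCat.ofHom_comp]
    congr 2

theorem mem_range_map_of_subset {Ω : Type u} [CommRing Ω] [Algebra A Ω] (z : B ⊗[A] Ω) :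
    ∃ s : Finset Ω, ∀ C : Subalgebra A Ω, (s : Set Ω) ⊆ C →
      z ∈ (Algebra.TensorProduct.map (AlgHom.id A B) (IsScalarTower.toAlgHom A C Ω)).range := by
  classical
  induction z using TensorProduct.induction_on with
  | zero => exact ⟨∅, fun C _ ↦ zero_mem _⟩
  | tmul b w => exact ⟨{w}, fun C hC ↦ ⟨b ⊗ₜ ⟨w, hC (Finset.mem_singleton_self w)⟩, by simp⟩⟩
  | add x y hx hy =>
    obtain ⟨s, hs⟩ := hx
    obtain ⟨t, ht⟩ := hy
    exact ⟨s ∪ t, fun C hC ↦ add_mem (hs C fun w hw ↦ hC (Finset.mem_union_left _ hw))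
      (ht C fun w hw ↦ hC (Finset.mem_union_right _ hw))⟩

omit hi in
/-- A closed subset of the base change to a field is defined over a finitely generated algebra. -/
theorem exists_model_closed [LocallyOfFiniteType f] [QuasiCompact f] {Ω : Type u} [Field Ω] [Algebra A Ω]
    (T : Set ↥(pullback f (Spec.map (CommRingCat.ofHom (algebraMap A Ω))))) (hT : IsClosed T) :
    ∃ s : Finset Ω, ∀ C : Subalgebra A Ω, (s : Set Ω) ⊆ C →
      bcMap f C Ω ⁻¹' closure (bcMap f C Ω '' T) = T := by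
  classical
  have : CompactSpace X := QuasiCompact.compactSpace_of_compactSpace f
  obtain ⟨t, ht⟩ := isCompact_univ.elim_finite_subcover (fun W : X.affineOpens ↦ ((W : X.Opens) : Set X))
    (fun W ↦ (W : X.Opens).2) (fun x _ ↦ by
      obtain ⟨_, ⟨W, hW, rfl⟩, hxW, -⟩ := X.isBasis_affineOpens.exists_subset_of_mem_open
        (Set.mem_univ x) isOpen_univ
      exact Set.mem_iUnion.mpr ⟨⟨W, hW⟩, hxW⟩)
  have key : ∀ W : X.affineOpens, ∃ s : Finset Ω, ∀ C : Subalgebra A Ω, (s : Set Ω) ⊆ C →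
      ∀ x, prj f Ω x ∈ (W : X.Opens) → bcMap f C Ω x ∈ closure (bcMap f C Ω '' T) → x ∈ T := by
    intro W
    obtain ⟨B, _, _, _, i, _, hif, hir, -⟩ := exists_piece f W W.2 Set.univ isClosed_univ
    rw [Set.univ_inter] at hir
    have : IsNoetherianRing (B ⊗[A] Ω) :=
      have : IsNoetherianRing (Ω ⊗[A] B) := Algebra.FiniteType.isNoetherianRing Ω _
      isNoetherianRing_of_ringEquiv _ (Algebra.TensorProduct.comm A Ω B).toRingEquiv
    let T' : Set (PrimeSpectrum (B ⊗[A] Ω)) := chart f hif Ω ⁻¹' T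
    obtain ⟨G, hG⟩ := (IsNoetherian.noetherian (PrimeSpectrum.vanishingIdeal T') : Submodule.FG _)
    choose sg hsg using fun g : B ⊗[A] Ω ↦ mem_range_map_of_subset (A := A) g
    refine ⟨G.biUnion sg, fun C hC x hxW hx ↦ ?_⟩
    obtain ⟨p, rfl⟩ : x ∈ Set.range (chart f hif Ω) := by rw [range_chart, hir]; exact hxW
    have hsq : ∀ p, bcMap f C Ω (chart f hif Ω p) = chart f hif C (Spec.map (CommRingCat.ofHom
        (Algebra.TensorProduct.map (AlgHom.id A B) (IsScalarTower.toAlgHom A C Ω)).toRingHom) p) := fun p ↦ by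
      rw [← Scheme.Hom.comp_apply, chart_bcMap f hif C Ω, Scheme.Hom.comp_apply]
    set φ := (Algebra.TensorProduct.map (AlgHom.id A B) (IsScalarTower.toAlgHom A C Ω)).toRingHom
    have hopen : IsOpen (Set.range (chart f hif C)) := by
      rw [range_chart, hir]; exact (W : X.Opens).2.preimage (prj f C).continuous
    have h1 : Spec.map (CommRingCat.ofHom φ) p ∈ closure (Spec.map (CommRingCat.ofHom φ) '' T') := by
      rw [(isEmbedding_chart f hif C).isInducing.closure_eq_preimage_closure_image, Set.mem_preimage, ← hsq]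
      refine closure_mono ?_ (hopen.inter_closure ⟨hsq p ▸ Set.mem_range_self _, hx⟩)
      rintro _ ⟨hz, w, hw, rfl⟩
      obtain ⟨q, rfl⟩ : w ∈ Set.range (chart f hif Ω) := by
        rw [range_chart, hir] at hz ⊢
        rw [Set.mem_preimage, ← Scheme.Hom.comp_apply, bcMap_fst] at hz
        exact hz
      exact ⟨_, ⟨q, hw, rfl⟩, (hsq q).symm⟩
    show p ∈ T'
    have hTc : IsClosed T' := hT.preimage (chart f hif Ω).continuous
    rw [← hTc.closure_eq, ← PrimeSpectrum.zeroLocus_vanishingIdeal_eq_closure]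
    show ((PrimeSpectrum.vanishingIdeal T' : Ideal (B ⊗[A] Ω)) : Set (B ⊗[A] Ω)) ⊆ (p.asIdeal : Set (B ⊗[A] Ω))
    rw [← hG]
    refine Submodule.span_le.mpr fun g hg ↦ ?_
    obtain ⟨gC, hgC⟩ := hsg g C fun w hw ↦ hC (Finset.mem_biUnion.mpr ⟨g, hg, hw⟩)
    have h2 : Spec.map (CommRingCat.ofHom φ) '' T' ⊆ PrimeSpectrum.zeroLocus {gC} := by
      rintro _ ⟨q, hq, rfl⟩
      refine Set.singleton_subset_iff.mpr ?_
      show φ gC ∈ q.asIdeal
      rw [show φ gC = g from hgC]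
      exact (PrimeSpectrum.mem_vanishingIdeal T' g).mp (hG ▸ Submodule.subset_span hg) q hq
    have h3 := closure_minimal h2 (PrimeSpectrum.isClosed_zeroLocus _) h1
    rw [← show φ gC = g from hgC]
    exact h3 rfl
  choose s hs using key
  refine ⟨t.biUnion s, fun C hC ↦ Set.Subset.antisymm (fun x hx ↦ ?_) fun x hx ↦ subset_closure ⟨x, hx, rfl⟩⟩
  obtain ⟨W, hW, hxW⟩ := Set.mem_iUnion₂.mp (ht (Set.mem_univ (prj f Ω x)))
  exact hs W C (fun w hw ↦ hC (Finset.mem_biUnion.mpr ⟨W, hW, hw⟩)) x hxW hx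

omit hi in
/-- The counts, given irreducible closed models of the components of the geometric generic fibre. -/
theorem exists_forall_counts [IsDomain A] [LocallyOfFiniteType f] [QuasiCompact f] {Ω : Type u} [Field Ω]
    [IsAlgClosed Ω] [Algebra A Ω] (hinjC : Function.Injective (algebraMap A Ω)) {I : Type u} [Fintype I]
    (Z : I → Set X) (hZc : ∀ T, IsClosed (Z T)) (hΩcov : ∀ x, ∃ T : I, x ∈ prj f Ω ⁻¹' Z T)
    (hΩirr : ∀ T : I, IsIrreducible (prj f Ω ⁻¹' Z T))
    (hΩno : ∀ T T' : I, prj f Ω ⁻¹' Z T ⊆ prj f Ω ⁻¹' Z T' → T = T') :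
    ∃ c : A, c ≠ 0 ∧ ∀ (k : Type u) [Field k] [IsAlgClosed k] [Algebra A k], algebraMap A k c ≠ 0 →
      MoreMor.nGeomIrredComp f (pt (A := A) k) = ENat.card I ∧
        ENat.card (_root_.ConnectedComponents ↥(pullback f (Spec.map (CommRingCat.ofHom (algebraMap A k))))) =
          ENat.card (_root_.ConnectedComponents ↥(pullback f (Spec.map (CommRingCat.ofHom (algebraMap A Ω))))) := by
  classical
  choose c₁ hc₁ hirr using fun T : I ↦ exists_forall_isIrreducible f (Z T) (hZc T) hinjC (hΩirr T)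
  have hpair : ∀ p : I × I, ∃ c : A, c ≠ 0 ∧ ∀ (k : Type u) [Field k] [Algebra A k], algebraMap A k c ≠ 0 →
      (p.1 ≠ p.2 → ¬ prj f k ⁻¹' Z p.1 ⊆ prj f k ⁻¹' Z p.2) ∧
        ((prj f k ⁻¹' Z p.1 ∩ prj f k ⁻¹' Z p.2).Nonempty ↔
          (prj f Ω ⁻¹' Z p.1 ∩ prj f Ω ⁻¹' Z p.2).Nonempty) := by
    intro p
    have hA : ∃ c : A, c ≠ 0 ∧ (p.1 ≠ p.2 → ∀ t : PrimeSpectrum A, c ∉ t.asIdeal →
        ∃ z ∈ Z p.1, z ∉ Z p.2 ∧ f z = t) := by
      by_cases hp : p.1 = p.2
      · exact ⟨1, one_ne_zero, fun h ↦ absurd hp h⟩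
      obtain ⟨x, hx1, hx2⟩ := Set.not_subset.mp fun h ↦ hp (hΩno _ _ h)
      obtain ⟨c, hc, h⟩ := exists_forall_nonempty f (Z p.1) (hZc _)
        ⟨(Z p.2)ᶜ, (hZc _).isOpen_compl⟩ hx1 hx2 (((range_prj f Ω).le ⟨x, rfl⟩).trans (pt_eq_bot Ω hinjC))
      exact ⟨c, hc, fun _ ↦ h⟩
    have hB : ∃ c : A, c ≠ 0 ∧ ∀ t : PrimeSpectrum A, c ∉ t.asIdeal →
        ((∃ z ∈ Z p.1 ∩ Z p.2, f z = t) ↔ (prj f Ω ⁻¹' Z p.1 ∩ prj f Ω ⁻¹' Z p.2).Nonempty) := by
      by_cases hne : (prj f Ω ⁻¹' Z p.1 ∩ prj f Ω ⁻¹' Z p.2).Nonempty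
      · obtain ⟨x, hx⟩ := hne
        obtain ⟨c, hc, h⟩ := exists_forall_nonempty f (Z p.1 ∩ Z p.2) ((hZc _).inter (hZc _))
          ⊤ (z := prj f Ω x) hx trivial (((range_prj f Ω).le ⟨x, rfl⟩).trans (pt_eq_bot Ω hinjC))
        exact ⟨c, hc, fun t ht ↦ ⟨fun _ ↦ ⟨x, hx⟩, fun _ ↦ by
          obtain ⟨z, hz, -, hzt⟩ := h t ht; exact ⟨z, hz, hzt⟩⟩⟩
      · obtain ⟨c, hc, h⟩ := exists_forall_generalization f (Z p.1 ∩ Z p.2) ((hZc _).inter (hZc _))
        refine ⟨c, hc, fun t ht ↦ ⟨fun ⟨z, hz, hzt⟩ ↦ ?_, fun h' ↦ absurd h' hne⟩⟩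
        obtain ⟨z₀, hz₀, -, hz₀g⟩ := h z hz (hzt ▸ ht)
        obtain ⟨x, rfl⟩ := (range_prj f Ω).ge (hz₀g.trans (pt_eq_bot Ω hinjC).symm)
        exact ⟨x, hz₀⟩
    obtain ⟨c, hc, h⟩ := hA
    obtain ⟨d, hd, h'⟩ := hB
    refine ⟨c * d, mul_ne_zero hc hd, fun k _ _ hk ↦ ?_⟩
    rw [map_mul, mul_ne_zero_iff] at hk
    refine ⟨fun hp hsub ↦ ?_, ?_⟩
    · obtain ⟨z, hz, hz', hzt⟩ := h hp (pt (A := A) k) hk.1
      obtain ⟨w, rfl⟩ := (range_prj f k).ge hzt
      exact hz' (hsub hz)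
    · rw [← h' (pt (A := A) k) hk.2, ← Set.preimage_inter, nonempty_preimage_iff]
  choose c₂ hc₂ hpat using hpair
  obtain ⟨c₃, hc₃, hgen⟩ := exists_forall_generalization f Set.univ isClosed_univ
  let c := (∏ T, c₁ T) * (∏ p, c₂ p) * c₃
  have hc : c ≠ 0 := mul_ne_zero (mul_ne_zero (Finset.prod_ne_zero_iff.mpr fun T _ ↦ hc₁ T)
    (Finset.prod_ne_zero_iff.mpr fun p _ ↦ hc₂ p)) hc₃
  refine ⟨c, hc, fun k _ _ _ hk ↦ ?_⟩
  rw [map_mul, map_mul, mul_ne_zero_iff, mul_ne_zero_iff, map_prod, map_prod, Finset.prod_ne_zero_iff,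
    Finset.prod_ne_zero_iff] at hk
  obtain ⟨⟨hk₁, hk₂⟩, hk₃⟩ := hk
  have hk₁' := fun T ↦ hirr T k (hk₁ T (Finset.mem_univ T))
  have hcov : ∀ x, ∃ T : I, x ∈ prj f k ⁻¹' Z T := fun x ↦ by
    obtain ⟨z₀, -, hz₀, hz₀g⟩ := hgen (prj f k x) trivial (by
      rw [(range_prj f k).le ⟨x, rfl⟩]; exact hk₃)
    obtain ⟨w, rfl⟩ := (range_prj f Ω).ge (hz₀g.trans (pt_eq_bot Ω hinjC).symm)
    obtain ⟨T, hT⟩ := hΩcov w
    exact ⟨T, hz₀.mem_closed (hZc _) hT⟩
  have hno : ∀ T T' : I, prj f k ⁻¹' Z T ⊆ prj f k ⁻¹' Z T' → T = T' := fun T T' hsub ↦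
    by_contra fun hne ↦ (hpat (T, T') k (hk₂ _ (Finset.mem_univ _))).1 hne hsub
  have hcl : ∀ T, IsClosed (prj f k ⁻¹' Z T) := fun T ↦ (hZc _).preimage (prj f k).continuous
  refine ⟨?_, card_connectedComponents_eq_of_pattern _ _ (fun T ↦ ⟨hcl T, hk₁' T⟩)
    (fun T ↦ ⟨(hZc _).preimage (prj f Ω).continuous, hΩirr T⟩) hcov hΩcov
    fun T T' ↦ (hpat (T, T') k (hk₂ _ (Finset.mem_univ _))).2⟩
  rw [(nGeom_eq f (Spec.map (CommRingCat.ofHom (algebraMap A k))) (pt (A := A) k)
    ((range_SpecMap_field (A := A) k).le ⟨_, rfl⟩)).1]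
  obtain ⟨he1, he2⟩ := irreducibleComponents_eq_range _ hcl hk₁' hcov hno
  rw [he1, ← Set.image_univ, he2.injOn.encard_image, Set.encard_univ]

omit hi in
/-- The counts at the points of a nonempty open, in terms of the points of the base. -/
theorem exists_forall_counts_pt [IsDomain A] [LocallyOfFiniteType f] [QuasiCompact f] {Ω : Type u} [Field Ω]
    [IsAlgClosed Ω] [Algebra A Ω] (hinjC : Function.Injective (algebraMap A Ω)) {I : Type u} [Fintype I]
    (Z : I → Set X) (hZc : ∀ T, IsClosed (Z T)) (hΩcov : ∀ x, ∃ T : I, x ∈ prj f Ω ⁻¹' Z T)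
    (hΩirr : ∀ T : I, IsIrreducible (prj f Ω ⁻¹' Z T))
    (hΩno : ∀ T T' : I, prj f Ω ⁻¹' Z T ⊆ prj f Ω ⁻¹' Z T' → T = T') :
    ∃ c : A, c ≠ 0 ∧ ∀ s : PrimeSpectrum A, c ∉ s.asIdeal →
      MoreMor.nGeomIrredComp f s = ENat.card I ∧ MoreMor.nGeomConnComp f s =
        ENat.card (_root_.ConnectedComponents ↥(pullback f (Spec.map (CommRingCat.ofHom (algebraMap A Ω))))) := by
  obtain ⟨c, hc, h⟩ := exists_forall_counts f hinjC Z hZc hΩcov hΩirr hΩno
  refine ⟨c, hc, fun s hs ↦ ?_⟩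
  obtain ⟨k, _, _, _, hker⟩ : ∃ (k : Type u) (_ : Field k) (_ : IsAlgClosed k) (_ : Algebra A k),
      ∀ d : A, algebraMap A k d = 0 ↔ d ∈ s.asIdeal :=
    ⟨AlgebraicClosure s.asIdeal.ResidueField, inferInstance, inferInstance, inferInstance, fun d ↦ by
      rw [IsScalarTower.algebraMap_apply A s.asIdeal.ResidueField (AlgebraicClosure s.asIdeal.ResidueField),
        map_eq_zero_iff _ (RingHom.injective _), Ideal.algebraMap_residueField_eq_zero]⟩
  have hpt : pt (A := A) k = s := PrimeSpectrum.ext (Ideal.ext hker)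
  obtain ⟨h1, h2⟩ := h k (fun e ↦ hs ((hker c).mp e))
  rw [← hpt]
  refine ⟨h1, ?_⟩
  rw [(nGeom_eq f (Spec.map (CommRingCat.ofHom (algebraMap A k))) (pt (A := A) k)
    ((range_SpecMap_field (A := A) k).le ⟨_, rfl⟩)).2]
  exact h2

omit hi in
theorem exists_forall_nGeom_aux [IsDomain A] [LocallyOfFiniteType f] [QuasiCompact f] {Ω : Type u} [Field Ω]
    [IsAlgClosed Ω] [Algebra A Ω] (hinjΩ : Function.Injective (algebraMap A Ω)) :
    ∃ a : A, a ≠ 0 ∧ ∀ t : PrimeSpectrum A, a ∉ t.asIdeal →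
      MoreMor.nGeomIrredComp f t = MoreMor.nGeomIrredComp f gpt ∧
        MoreMor.nGeomConnComp f t = MoreMor.nGeomConnComp f gpt := by
  classical
  let XΩ := pullback f (Spec.map (CommRingCat.ofHom (algebraMap A Ω)))
  have : CompactSpace X := QuasiCompact.compactSpace_of_compactSpace f
  have : CompactSpace XΩ := QuasiCompact.compactSpace_of_compactSpace (pullback.snd f _)
  have : IsLocallyNoetherian XΩ := LocallyOfFiniteType.isLocallyNoetherian (pullback.snd f _)
  have : IsNoetherian XΩ := {}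
  have hfin : (irreducibleComponents XΩ).Finite := NoetherianSpace.finite_irreducibleComponents
  let I := irreducibleComponents XΩ
  have : Finite I := hfin.to_subtype
  let T : I → Set XΩ := fun T ↦ T.1
  choose s hs using fun T : I ↦ exists_model_closed f T.1 (isClosed_of_mem_irreducibleComponents _ T.2)
  cases nonempty_fintype I
  obtain ⟨C, _, hC⟩ : ∃ C : Subalgebra A Ω, Algebra.FiniteType A C ∧ ∀ T : I, (s T : Set Ω) ⊆ C :=
    ⟨Algebra.adjoin A ((Finset.univ.biUnion s : Finset Ω) : Set Ω),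
      (Subalgebra.fg_iff_finiteType _).mp (Subalgebra.fg_adjoin_finset _),
      fun T w hw ↦ Algebra.subset_adjoin (Finset.mem_biUnion.mpr ⟨T, Finset.mem_univ T, hw⟩)⟩
  have hinjC : Function.Injective (algebraMap C Ω) := Subtype.val_injective
  let g := Spec.map (CommRingCat.ofHom (algebraMap A C))
  let fC := pullback.snd f g
  obtain ⟨e, he⟩ : ∃ e : pullback fC (Spec.map (CommRingCat.ofHom (algebraMap C Ω))) ≅ XΩ,
      e.hom ≫ bcMap f C Ω = prj fC Ω := by
    let e := pullbackLeftPullbackSndIso f g (Spec.map (CommRingCat.ofHom (algebraMap C Ω))) ≪≫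
      pullback.congrHom (f₂ := f) (g₂ := Spec.map (CommRingCat.ofHom (algebraMap A Ω))) rfl (by
        rw [← Spec.map_comp, ← CommRingCat.ofHom_comp, ← IsScalarTower.algebraMap_eq])
    refine ⟨e, ?_⟩
    apply pullback.hom_ext
    · rw [Category.assoc, bcMap_fst]
      simp only [e, Iso.trans_hom, Category.assoc, pullback.congrHom_hom, prj]
      erw [pullback.lift_fst]
      rw [Category.comp_id]
      exact pullbackLeftPullbackSndIso_hom_fst f g _
    · simp only [bcMap, Category.assoc, pullback.lift_snd]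
      simp only [e, Iso.trans_hom, Category.assoc, pullback.congrHom_hom]
      erw [pullback.lift_snd_assoc]
      rw [Category.comp_id, pullbackLeftPullbackSndIso_hom_snd_assoc]
      exact pullback.condition.symm
  let Z : I → Set ↥(pullback f g) := fun T ↦ closure (bcMap f C Ω '' T.1)
  have hZ : ∀ T : I, prj fC Ω ⁻¹' Z T = e.hom ⁻¹' T.1 := fun T ↦ by
    rw [← he]
    exact congrArg (e.hom ⁻¹' ·) (hs T C (hC T))
  have hΩcov : ∀ x, ∃ T : I, x ∈ prj fC Ω ⁻¹' Z T := fun x ↦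
    ⟨⟨_, irreducibleComponent_mem_irreducibleComponents (e.hom x)⟩, (hZ _).ge mem_irreducibleComponent⟩
  have hΩirr : ∀ T : I, IsIrreducible (prj fC Ω ⁻¹' Z T) := fun T ↦ by
    rw [hZ T, show e.hom ⁻¹' T.1 = e.hom.homeomorph.symm '' T.1 from
      (e.hom.homeomorph.image_symm ▸ rfl)]
    exact T.2.1.image _ e.hom.homeomorph.symm.continuous.continuousOn
  have hΩno : ∀ T T' : I, prj fC Ω ⁻¹' Z T ⊆ prj fC Ω ⁻¹' Z T' → T = T' := fun T T' h ↦ by
    rw [hZ, hZ] at h
    have h1 : T.1 ⊆ T'.1 := (Set.preimage_subset_preimage_iff (by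
      rw [e.hom.surjective.range_eq]; exact Set.subset_univ _)).mp h
    exact Subtype.ext (h1.antisymm (T.2.2 T'.2.1 h1))
  obtain ⟨c, hc, hcount⟩ := exists_forall_counts_pt fC hinjC Z (fun _ ↦ isClosed_closure) hΩcov hΩirr hΩno
  have : LocallyOfFiniteType g := (HasRingHomProperty.Spec_iff (P := @LocallyOfFiniteType)).mpr
    (RingHom.finiteType_algebraMap.mpr ‹Algebra.FiniteType A C›)
  have hg0 : g (⟨⊥, Ideal.isPrime_bot⟩ : PrimeSpectrum C) = gpt := by
    refine PrimeSpectrum.ext ?_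
    show (⊥ : Ideal C).comap (algebraMap A C) = ⊥
    rw [← RingHom.ker_eq_comap_bot, ← RingHom.injective_iff_ker_eq_bot]
    exact fun x y hxy ↦ hinjΩ (congrArg Subtype.val hxy)
  obtain ⟨a, ha, hlift⟩ := exists_forall_nonempty g Set.univ isClosed_univ
    (PrimeSpectrum.basicOpen c : (Spec (CommRingCat.of C)).Opens)
    (z := (⟨⊥, Ideal.isPrime_bot⟩ : PrimeSpectrum C)) trivial hc hg0
  have hat : ∀ s : PrimeSpectrum C, c ∉ s.asIdeal →
      MoreMor.nGeomIrredComp f (g s) = ENat.card I ∧ MoreMor.nGeomConnComp f (g s) =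
        ENat.card (_root_.ConnectedComponents ↥(pullback fC (Spec.map (CommRingCat.ofHom (algebraMap C Ω))))) := by
    intro s hs
    obtain ⟨b1, b2⟩ := nGeom_baseChange (IsPullback.of_hasPullback f g) s
    rw [← b1, ← b2]
    exact hcount s hs
  have hgen' := hat ⟨⊥, Ideal.isPrime_bot⟩ hc
  refine ⟨a, ha, fun t ht ↦ ?_⟩
  obtain ⟨s, -, hsc, rfl⟩ := hlift t ht
  rw [← hg0]
  exact ⟨(hat s hsc).1.trans hgen'.1.symm, (hat s hsc).2.trans hgen'.2.symm⟩

omit hi in
/-- The geometric component counts are those of the generic point on a nonempty open of the base. -/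
theorem exists_forall_nGeom [IsDomain A] [LocallyOfFiniteType f] [QuasiCompact f] :
    ∃ a : A, a ≠ 0 ∧ ∀ t : PrimeSpectrum A, a ∉ t.asIdeal →
      MoreMor.nGeomIrredComp f t = MoreMor.nGeomIrredComp f gpt ∧
        MoreMor.nGeomConnComp f t = MoreMor.nGeomConnComp f gpt :=
  exists_forall_nGeom_aux f (Ω := AlgebraicClosure (FractionRing A)) (by
    rw [IsScalarTower.algebraMap_eq A (FractionRing A) (AlgebraicClosure (FractionRing A))]
    exact (algebraMap (FractionRing A) (AlgebraicClosure (FractionRing A))).injective.comp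
      (IsFractionRing.injective A (FractionRing A)))

end Groth.Agent.GeomFib
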