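import Groth.Agent.GeomFib.NearPoint

/-!
# Spreading a finite closed family from one fibre to the fibres near it on its closure
-/

set_option autoImplicit false

universe u v

open CategoryTheory AlgebraicGeometry Limits TopologicalSpace

namespace Groth.Agent.GeomFib

variable {X Y : Scheme.{u}} (f : X ⟶ Y) [LocallyOfFiniteType f]

/-- A closed set meeting an open set in a fibre does so in the nearby fibres over the closure. -/
theorem exists_open_forall_nonempty (y : Y) (Z : Set X) (hZ : IsClosed Z) (G : X.Opens) {z : X}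
    (hzZ : z ∈ Z) (hzG : z ∈ G) (hz : f z = y) :
    ∃ O : Y.Opens, y ∈ O ∧ ∀ y' ∈ O, y ⤳ y' → ∃ z' ∈ Z, z' ∈ G ∧ f z' = y' := by
  obtain ⟨A, _, _, σ, hσ, hO⟩ := exists_integral_chart y
  obtain ⟨p, hp1, hp2⟩ := Scheme.Pullback.exists_preimage_pullback (f := f) (g := σ) z (gpt (A := A)) (hz.trans hσ.symm)
  obtain ⟨a, ha, h⟩ := exists_forall_nonempty (pullback.snd f σ) ((pullback.fst f σ) ⁻¹' Z)
    (hZ.preimage (pullback.fst f σ).continuous) ((pullback.fst f σ) ⁻¹ᵁ G)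
    (z := p) (show pullback.fst f σ p ∈ Z from hp1.symm ▸ hzZ) (show pullback.fst f σ p ∈ G from hp1.symm ▸ hzG) hp2
  obtain ⟨O, hyO, hO⟩ := hO a ha
  refine ⟨O, hyO, fun y' hy' hs ↦ ?_⟩
  obtain ⟨t, ht, rfl⟩ := hO y' hy' hs
  obtain ⟨q, hqZ, hqG, hqt⟩ := h t ht
  exact ⟨pullback.fst f σ q, hqZ, hqG, by
    rw [← Scheme.Hom.comp_apply, pullback.condition, Scheme.Hom.comp_apply, hqt]⟩

/-- Points of a closed set in the nearby fibres over the closure generalise into the fibre. -/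
theorem exists_open_forall_generalization [QuasiCompact f] (y : Y) (Z : Set X) (hZ : IsClosed Z) :
    ∃ O : Y.Opens, y ∈ O ∧ ∀ y' ∈ O, y ⤳ y' → ∀ z ∈ Z, f z = y' → ∃ z₀ ∈ Z, z₀ ⤳ z ∧ f z₀ = y := by
  obtain ⟨A, _, _, σ, hσ, hO⟩ := exists_integral_chart y
  obtain ⟨a, ha, h⟩ := exists_forall_generalization (pullback.snd f σ) ((pullback.fst f σ) ⁻¹' Z)
    (hZ.preimage (pullback.fst f σ).continuous)
  obtain ⟨O, hyO, hO⟩ := hO a ha
  refine ⟨O, hyO, fun y' hy' hs z hz hzy ↦ ?_⟩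
  obtain ⟨t, ht, rfl⟩ := hO y' hy' hs
  obtain ⟨p, hp1, hp2⟩ := Scheme.Pullback.exists_preimage_pullback (f := f) (g := σ) z t hzy
  obtain ⟨p₀, hp₀Z, hp₀, hp₀g⟩ := h p (show pullback.fst f σ p ∈ Z from hp1.symm ▸ hz) (hp2.symm ▸ ht)
  exact ⟨pullback.fst f σ p₀, hp₀Z, hp1 ▸ hp₀.map (pullback.fst f σ).continuous, by
    rw [← Scheme.Hom.comp_apply, pullback.condition, Scheme.Hom.comp_apply, hp₀g, hσ]⟩

theorem mem_univ_inf {ι : Type*} [Fintype ι] (O : ι → Y.Opens) (y : Y) :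
    y ∈ Finset.univ.inf O ↔ ∀ i, y ∈ O i := by
  rw [← SetLike.mem_coe, Opens.coe_finset_inf, Finset.inf_eq_iInf]
  simp

/-- A finite closed cover of a fibre without redundancy spreads, with its disjointness, to nearby fibres. -/
theorem exists_open_family [QuasiCompact f] (y : Y) {ι : Type v} [Finite ι] (C : ι → Set (f.fiber y))
    (hC : ∀ i, IsClosed (C i)) (hcov : ∀ w, ∃ i, w ∈ C i)
    (hpt : ∀ i, ∃ w ∈ C i, ∀ j, w ∈ C j → j = i) :
    ∃ O : Y.Opens, y ∈ O ∧ ∀ y' ∈ O, y ⤳ y' → ∃ D : ι → Set (f.fiber y'),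
      (∀ i, IsClosed (D i)) ∧ (∀ w, ∃ i, w ∈ D i) ∧ (∀ i, ∃ w ∈ D i, ∀ j, w ∈ D j → j = i) ∧
      ∀ i j, Disjoint (C i) (C j) → Disjoint (D i) (D j) := by
  classical
  cases nonempty_fintype ι
  let Z : ι → Set X := fun i ↦ closure (f.fiberι y '' C i)
  have hmem : ∀ i w, f.fiberι y w ∈ Z i → w ∈ C i := fun i w hw ↦ by
    rw [← (hC i).closure_eq, (f.fiberι y).isEmbedding.isInducing.closure_eq_preimage_closure_image]
    exact hw
  have hlift : ∀ z : X, f z = y → ∃ w, f.fiberι y w = z := fun z hz ↦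
    Set.mem_range.mp ((f.range_fiberι y).ge hz)
  have hover : ∀ w, f (f.fiberι y w) = y := fun w ↦ (f.range_fiberι y).le ⟨w, rfl⟩
  obtain ⟨O₀, hO₀, hgen⟩ := exists_open_forall_generalization f y Set.univ isClosed_univ
  have h1 : ∀ i, ∃ O : Y.Opens, y ∈ O ∧ ∀ y' ∈ O, y ⤳ y' → ∃ z, f z = y' ∧ z ∈ Z i ∧ ∀ j, z ∈ Z j → j = i := by
    intro i
    obtain ⟨w, hw, hwj⟩ := hpt i
    obtain ⟨O, hyO, hO⟩ := exists_open_forall_nonempty f y (Z i) isClosed_closure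
      ⟨(⋃ j ∈ {j | j ≠ i}, Z j)ᶜ, (Set.Finite.isClosed_biUnion (Set.toFinite _) fun _ _ ↦ isClosed_closure).isOpen_compl⟩
      (z := f.fiberι y w) (subset_closure ⟨w, hw, rfl⟩)
      (fun h ↦ by
        obtain ⟨j, hj, hwZ⟩ := Set.mem_iUnion₂.mp h
        exact hj (hwj j (hmem j w hwZ))) (hover w)
    refine ⟨O, hyO, fun y' hy' hs ↦ ?_⟩
    obtain ⟨z, hzZ, hzG, hzy⟩ := hO y' hy' hs
    exact ⟨z, hzy, hzZ, fun j hj ↦ by_contra fun hne ↦ hzG (Set.mem_biUnion (show j ∈ {j | j ≠ i} from hne) hj)⟩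
  choose O₁ hO₁ h1 using h1
  have h2 : ∀ p : ι × ι, ∃ O : Y.Opens, y ∈ O ∧ (Disjoint (C p.1) (C p.2) →
      ∀ y' ∈ O, y ⤳ y' → ∀ z, f z = y' → z ∈ Z p.1 → z ∉ Z p.2) := by
    intro p
    obtain ⟨O, hyO, hO⟩ := exists_open_forall_generalization f y (Z p.1 ∩ Z p.2) (isClosed_closure.inter isClosed_closure)
    refine ⟨O, hyO, fun hd y' hy' hs z hzy hz1 hz2 ↦ ?_⟩
    obtain ⟨z₀, ⟨hz₀1, hz₀2⟩, -, hz₀y⟩ := hO y' hy' hs z ⟨hz1, hz2⟩ hzy
    obtain ⟨w, rfl⟩ := hlift z₀ hz₀y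
    exact Set.disjoint_left.mp hd (hmem _ w hz₀1) (hmem _ w hz₀2)
  choose O₂ hO₂ h2 using h2
  refine ⟨O₀ ⊓ Finset.univ.inf O₁ ⊓ Finset.univ.inf O₂, ?_, fun y' hy' hs ↦ ?_⟩
  · exact ⟨⟨hO₀, (mem_univ_inf O₁ y).mpr hO₁⟩, (mem_univ_inf O₂ y).mpr hO₂⟩
  obtain ⟨⟨hy0, hy1⟩, hy2⟩ : (y' ∈ O₀ ∧ y' ∈ Finset.univ.inf O₁) ∧ y' ∈ Finset.univ.inf O₂ := hy'
  rw [mem_univ_inf] at hy1 hy2
  have hrange : ∀ w, f (f.fiberι y' w) = y' := fun w ↦ (f.range_fiberι y').le ⟨w, rfl⟩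
  refine ⟨fun i ↦ (f.fiberι y') ⁻¹' Z i, fun i ↦ isClosed_closure.preimage (f.fiberι y').continuous,
    fun w ↦ ?_, fun i ↦ ?_, fun i j hd ↦ Set.disjoint_left.mpr fun w hwi hwj ↦
      h2 (i, j) hd y' (hy2 (i, j)) hs _ (hrange w) hwi hwj⟩
  · obtain ⟨z₀, -, hz₀, hz₀y⟩ := hgen y' hy0 hs _ (Set.mem_univ _) (hrange w)
    obtain ⟨v, rfl⟩ := hlift z₀ hz₀y
    obtain ⟨i, hi⟩ := hcov v
    exact ⟨i, hz₀.mem_closed isClosed_closure (subset_closure ⟨v, hi, rfl⟩)⟩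
  · obtain ⟨z, hzy, hzi, hzj⟩ := h1 i y' (hy1 i) hs
    obtain ⟨w, rfl⟩ := Set.mem_range.mp ((f.range_fiberι y').ge hzy)
    exact ⟨w, hzi, hzj⟩

/-- A closed cover with a point in each member only bounds the number of irreducible components below. -/
theorem card_le_irreducibleComponents {α : Type u} [TopologicalSpace α] {ι : Type v} [Finite ι] (D : ι → Set α)
    (hD : ∀ i, IsClosed (D i)) (hcov : ∀ w, ∃ i, w ∈ D i) (hpt : ∀ i, ∃ w ∈ D i, ∀ j, w ∈ D j → j = i) :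
    ENat.card ι ≤ (irreducibleComponents α).encard := by
  classical
  cases nonempty_fintype ι
  choose w hw hwj using hpt
  have hsub : ∀ i, irreducibleComponent (w i) ⊆ D i := fun i ↦ by
    obtain ⟨T, hT, hle⟩ := (isIrreducible_iff_sUnion_isClosed.mp (isIrreducible_irreducibleComponent (x := w i)))
      (Finset.univ.image D) (fun T hT ↦ by obtain ⟨j, -, rfl⟩ := Finset.mem_image.mp hT; exact hD j)
      (fun x _ ↦ by
        obtain ⟨j, hj⟩ := hcov x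
        exact ⟨D j, Finset.mem_coe.mpr (Finset.mem_image_of_mem D (Finset.mem_univ j)), hj⟩)
    obtain ⟨j, -, rfl⟩ := Finset.mem_image.mp hT
    exact hwj i j (hle mem_irreducibleComponent) ▸ hle
  exact ENat.card_le_card_of_injective (f := fun i ↦
      (⟨_, irreducibleComponent_mem_irreducibleComponents (w i)⟩ : irreducibleComponents α)) fun i j hij ↦
    hwj j i (hsub i ((congrArg Subtype.val hij).ge mem_irreducibleComponent))

/-- A disjoint closed cover by nonempty sets bounds the number of connected components below. -/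
theorem card_le_connectedComponents {α : Type u} [TopologicalSpace α] {ι : Type v} [Finite ι] (D : ι → Set α)
    (hD : ∀ i, IsClosed (D i)) (hcov : ∀ w, ∃ i, w ∈ D i) (hne : ∀ i, (D i).Nonempty)
    (hdisj : ∀ i j, i ≠ j → Disjoint (D i) (D j)) :
    ENat.card ι ≤ ENat.card (ConnectedComponents α) := by
  choose w hw using hne
  have hcl : ∀ i, IsClopen (D i) := fun i ↦ ⟨hD i, by
    have : D i = (⋃ j ∈ {j | j ≠ i}, D j)ᶜ := by
      ext x
      simp only [Set.mem_compl_iff, Set.mem_iUnion, Set.mem_setOf_eq, exists_prop, not_exists, not_and]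
      refine ⟨fun hx j hj hxj ↦ Set.disjoint_left.mp (hdisj j i hj) hxj hx, fun h ↦ ?_⟩
      obtain ⟨j, hj⟩ := hcov x
      exact Classical.not_not.mp fun hx ↦ h j (fun e ↦ hx (e ▸ hj)) hj
    rw [this]
    exact (Set.Finite.isClosed_biUnion (Set.toFinite _) fun j _ ↦ hD j).isOpen_compl⟩
  refine ENat.card_le_card_of_injective (f := fun i ↦ ConnectedComponents.mk (w i)) fun i j hij ↦ ?_
  by_contra hne'
  have h1 : w j ∈ D i := (hcl i).connectedComponent_subset (hw i) (ConnectedComponents.coe_eq_coe'.mp hij.symm)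
  exact Set.disjoint_left.mp (hdisj i j hne') h1 (hw j)

end Groth.Agent.GeomFib
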