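import Groth.Agent.GeomFib.Model

/-!
# Geometric component counts near a point, along its closure
-/

set_option autoImplicit false

universe u

open CategoryTheory AlgebraicGeometry Limits TopologicalSpace

namespace Groth.Agent.GeomFib

variable {X Y : Scheme.{u}}

/-- The closure of a point near the point is the image of the spectrum of a domain. -/
theorem exists_integral_chart (y : Y) :
    ∃ (A : Type u) (_ : CommRing A) (_ : IsDomain A) (σ : Spec (CommRingCat.of A) ⟶ Y),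
      σ (⟨⊥, Ideal.isPrime_bot⟩ : PrimeSpectrum A) = y ∧ ∀ a : A, a ≠ 0 → ∃ O : Y.Opens, y ∈ O ∧
        ∀ y' ∈ O, y ⤳ y' → ∃ t : PrimeSpectrum A, a ∉ t.asIdeal ∧ σ t = y' := by
  obtain ⟨_, ⟨V, hV, rfl⟩, hyV, -⟩ := Y.isBasis_affineOpens.exists_subset_of_mem_open
    (Set.mem_univ y) isOpen_univ
  obtain ⟨p, hp⟩ : ∃ p : PrimeSpectrum Γ(Y, V), hV.fromSpec p = y :=
    ⟨hV.primeIdealOf ⟨y, hyV⟩, hV.fromSpec_primeIdealOf ⟨y, hyV⟩⟩
  let m := Ideal.Quotient.mk p.asIdeal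
  refine ⟨Γ(Y, V) ⧸ p.asIdeal, inferInstance, inferInstance,
    Spec.map (CommRingCat.ofHom m) ≫ hV.fromSpec, ?_, fun a ha ↦ ?_⟩
  · rw [Scheme.Hom.comp_apply, ← hp]
    congr 1
    exact PrimeSpectrum.ext (show (⊥ : Ideal (Γ(Y, V) ⧸ p.asIdeal)).comap m = p.asIdeal by
      rw [← RingHom.ker_eq_comap_bot, Ideal.mk_ker])
  obtain ⟨r, rfl⟩ := Ideal.Quotient.mk_surjective a
  refine ⟨hV.fromSpec ''ᵁ (PrimeSpectrum.basicOpen r : (Spec Γ(Y, V)).Opens),
    ⟨p, fun h ↦ ha (Ideal.Quotient.eq_zero_iff_mem.mpr h), hp⟩, ?_⟩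
  rintro _ ⟨q, hq, rfl⟩ hsp
  rw [← hp] at hsp
  have hle : p.asIdeal ≤ (q : PrimeSpectrum Γ(Y, V)).asIdeal :=
    (PrimeSpectrum.le_iff_specializes p q).mpr (hV.fromSpec.isOpenEmbedding.isInducing.specializes_iff.mp hsp)
  have hmap : (Ideal.map m (q : PrimeSpectrum Γ(Y, V)).asIdeal).comap m = (q : PrimeSpectrum Γ(Y, V)).asIdeal := by
    rw [Ideal.comap_map_of_surjective m Ideal.Quotient.mk_surjective, ← RingHom.ker_eq_comap_bot, Ideal.mk_ker]
    exact sup_eq_left.mpr hle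
  have hprime : (Ideal.map m (q : PrimeSpectrum Γ(Y, V)).asIdeal).IsPrime :=
    Ideal.map_isPrime_of_surjective Ideal.Quotient.mk_surjective (by rw [Ideal.mk_ker]; exact hle)
  refine ⟨⟨_, hprime⟩, fun h ↦ hq (hmap.le h), ?_⟩
  rw [Scheme.Hom.comp_apply]
  congr 1
  exact PrimeSpectrum.ext hmap

/-- The geometric component counts are constant near a point on its closure. -/
theorem exists_open_nGeom (f : X ⟶ Y) [LocallyOfFiniteType f] [QuasiCompact f] (y : Y) :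
    ∃ O : Y.Opens, y ∈ O ∧ ∀ y' ∈ O, y ⤳ y' →
      MoreMor.nGeomIrredComp f y' = MoreMor.nGeomIrredComp f y ∧
        MoreMor.nGeomConnComp f y' = MoreMor.nGeomConnComp f y := by
  obtain ⟨A, _, _, σ, hσ, hO⟩ := exists_integral_chart y
  obtain ⟨a, ha, h⟩ := exists_forall_nGeom (pullback.snd f σ)
  obtain ⟨O, hyO, hO⟩ := hO a ha
  refine ⟨O, hyO, fun y' hy' hsp ↦ ?_⟩
  obtain ⟨t, ht, rfl⟩ := hO y' hy' hsp
  obtain ⟨b1, b2⟩ := nGeom_baseChange (IsPullback.of_hasPullback f σ) t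
  obtain ⟨c1, c2⟩ := nGeom_baseChange (IsPullback.of_hasPullback f σ) (gpt (A := A))
  obtain ⟨h1, h2⟩ := h t ht
  rw [← b1, ← b2, h1, h2, c1, c2, show σ (gpt (A := A)) = y from hσ]
  exact ⟨rfl, rfl⟩

end Groth.Agent.GeomFib
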