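import Groth.Agent.GeomRedSpread.Domain
import Groth.Agent.GeomFib.NearFamily

/-!
# Nowhere density in the fibres near a point along its closure
-/

set_option autoImplicit false
set_option linter.style.haveILetI false
set_option linter.unusedSectionVars false

universe u

open CategoryTheory AlgebraicGeometry Limits TopologicalSpace TensorProduct

namespace Groth.Agent.GeomFib

attribute [local instance] Algebra.TensorProduct.rightAlgebra

/-- An ideal avoiding the maximal points of the generic fibre avoids those of the fibres over an open set. -/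
theorem exists_forall_not_le_minimal {A B : Type u} [CommRing A] [IsDomain A] [CommRing B] [Algebra A B]
    [Algebra.FiniteType A B] (J : Ideal B)
    (h : ∀ q : PrimeSpectrum B, q.asIdeal.comap (algebraMap A B) = ⊥ →
      (∀ q' : PrimeSpectrum B, q'.asIdeal ≤ q.asIdeal → q'.asIdeal.comap (algebraMap A B) = ⊥ → q' = q) →
      ¬ J ≤ q.asIdeal) :
    ∃ a : A, a ≠ 0 ∧ ∀ q : PrimeSpectrum B, a ∉ q.asIdeal.comap (algebraMap A B) →
      (∀ q' : PrimeSpectrum B, q'.asIdeal ≤ q.asIdeal →
        q'.asIdeal.comap (algebraMap A B) = q.asIdeal.comap (algebraMap A B) → q' = q) → ¬ J ≤ q.asIdeal := by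
  classical
  let B' := B ⧸ nilradical B
  let π : B →+* B' := Ideal.Quotient.mk (nilradical B)
  have hB' : _root_.IsReduced B' := (Ideal.isRadical_iff_quotient_reduced _).mp (Ideal.radical_isRadical _)
  let K := FractionRing A
  let S := K ⊗[A] B'
  have hloc : IsLocalization (Algebra.algebraMapSubmonoid B' (nonZeroDivisors A)) S :=
    IsLocalization.tensorRight K (nonZeroDivisors A)
  have : IsNoetherianRing S := Algebra.FiniteType.isNoetherianRing K S
  have hSred : _root_.IsReduced S := isReduced_localizationPreserves (Algebra.algebraMapSubmonoid B' (nonZeroDivisors A)) S hB'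
  have hfin := minimalPrimes.finite_of_isNoetherianRing S
  let ι : B →+* S := (algebraMap B' S).comp π
  have hιA : ∀ x, ι (algebraMap A B x) = algebraMap K S (algebraMap A K x) := fun x ↦ by
    show (1 : K) ⊗ₜ[A] algebraMap A B' x = algebraMap A K x ⊗ₜ[A] (1 : B')
    rw [Algebra.algebraMap_eq_smul_one, Algebra.algebraMap_eq_smul_one, TensorProduct.smul_tmul]
  -- minimal primes of the reduced generic fibre do not contain the ideal
  have hmin : ∀ P ∈ minimalPrimes S, ¬ J ≤ P.comap ι := by
    intro P hP
    have : P.IsPrime := hP.1.1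
    refine h ⟨P.comap ι, inferInstance⟩ (eq_bot_iff.mpr fun x hx ↦ ?_) fun q' hle hq' ↦ ?_
    · by_contra hx0
      refine hP.1.1.ne_top (Ideal.eq_top_of_isUnit_mem _ (show ι (algebraMap A B x) ∈ P from hx) ?_)
      rw [hιA]
      exact (Ne.isUnit fun h0 ↦ hx0 (IsFractionRing.injective A K (h0.trans (map_zero _).symm))).map _
    · have hker : RingHom.ker π ≤ q'.asIdeal := by
        rw [Ideal.mk_ker, nilradical_eq_sInf]; exact sInf_le q'.2
      have : (q'.asIdeal.map π).IsPrime := Ideal.map_isPrime_of_surjective Ideal.Quotient.mk_surjective hker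
      have hcm : (q'.asIdeal.map π).comap π = q'.asIdeal := by
        rw [Ideal.comap_map_of_surjective π Ideal.Quotient.mk_surjective, ← RingHom.ker_eq_comap_bot]
        exact sup_eq_left.mpr hker
      have hd : Disjoint (Algebra.algebraMapSubmonoid B' (nonZeroDivisors A) : Set B') ↑(q'.asIdeal.map π) := by
        rw [Set.disjoint_left]
        rintro _ ⟨r, hr, rfl⟩ hm
        have h0 : r ∈ q'.asIdeal.comap (algebraMap A B) := hcm.le (show π (algebraMap A B r) ∈ q'.asIdeal.map π from hm)
        rw [hq', Ideal.mem_bot] at h0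
        exact nonZeroDivisors.ne_zero hr h0
      have hP' := IsLocalization.isPrime_of_isPrime_disjoint _ S (q'.asIdeal.map π) this hd
      have hle' : (q'.asIdeal.map π).map (algebraMap B' S) ≤ P := by
        rw [Ideal.map_map, Ideal.map_le_iff_le_comap]
        exact hle
      refine PrimeSpectrum.ext ?_
      show q'.asIdeal = P.comap ι
      rw [le_antisymm (hP.2 ⟨hP', bot_le⟩ hle') hle', ← Ideal.comap_comap,
        show ((q'.asIdeal.map π).map (algebraMap B' S)).comap (algebraMap B' S) = q'.asIdeal.map π from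
          IsLocalization.under_map_of_isPrime_disjoint _ S this hd, hcm]
  obtain ⟨b, hbJ, hb⟩ : ∃ b ∈ J, ∀ P ∈ minimalPrimes S, ι b ∉ P := by
    by_contra hne
    push Not at hne
    have hsub : (J : Set B) ⊆ ⋃ p ∈ ((hfin.toFinset.image (Ideal.comap ι) : Finset (Ideal B)) : Set (Ideal B)), (p : Set B) := by
      intro x hx
      obtain ⟨P, hP, hxP⟩ := hne x hx
      exact Set.mem_biUnion (Finset.mem_coe.mpr (Finset.mem_image_of_mem _ (hfin.mem_toFinset.mpr hP))) hxP
    obtain ⟨p, hp, hle⟩ := (Ideal.subset_union_prime ⊥ ⊥ (fun p hp _ _ ↦ by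
      obtain ⟨P, hP, rfl⟩ := Finset.mem_image.mp hp
      have := (hfin.mem_toFinset.mp hP).1.1
      infer_instance)).mp hsub
    obtain ⟨P, hP, rfl⟩ := Finset.mem_image.mp hp
    exact hmin P (hfin.mem_toFinset.mp hP) hle
  -- the element is a nonzerodivisor on the generic fibre, hence on the nearby fibres
  have hnzd : ∀ z : S, ι b * z = 0 → z = 0 := fun z hz ↦ by
    refine IsReduced.eq_zero z ?_
    rw [← mem_nilradical, nilradical_eq_sInf S, Ideal.mem_sInf]
    intro q hq
    have : q.IsPrime := hq
    obtain ⟨P, hP, hPq⟩ := Ideal.exists_minimalPrimes_le (I := ⊥) (J := q) bot_le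
    exact hPq ((hP.1.1.mem_or_mem (hz.symm ▸ P.zero_mem : ι b * z ∈ P)).resolve_left (hb P hP))
  let c : B' := π b
  obtain ⟨f, hf, hfreeM, hfreeB, -, -⟩ := S0389.result (R := A) (S := B') (M := B' ⧸ Ideal.span ({c} : Set B'))
  let R := Localization.Away f
  have : IsDomain R := IsLocalization.isDomain_localization (powers_le_nonZeroDivisors_of_noZeroDivisors hf)
  refine ⟨f, hf, fun q hfq hqmin hJq ↦ ?_⟩
  let t : Ideal A := q.asIdeal.comap (algebraMap A B)
  let k := t.ResidueField
  letI : Algebra R k := (IsLocalization.Away.lift (S := R) f (g := algebraMap A k)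
    (IsUnit.mk0 _ fun h0 ↦ hfq (Ideal.algebraMap_residueField_eq_zero.mp h0))).toAlgebra
  haveI : IsScalarTower A R k := .of_algebraMap_eq fun x ↦ (IsLocalization.Away.lift_eq f _ x).symm
  let μ := LinearMap.mulLeft A c
  have hex : Function.Exact μ (Ideal.Quotient.mkₐ A (Ideal.span ({c} : Set B'))).toLinearMap := by
    intro x
    show Ideal.Quotient.mk (Ideal.span ({c} : Set B')) x = 0 ↔ _
    rw [Ideal.Quotient.eq_zero_iff_mem, Ideal.mem_span_singleton]
    exact ⟨fun ⟨y, hy⟩ ↦ ⟨y, hy.symm⟩, fun ⟨y, hy⟩ ↦ ⟨y, hy.symm⟩⟩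
  have hexR : Function.Exact (μ.baseChange R) ((Ideal.Quotient.mkₐ A (Ideal.span ({c} : Set B'))).toLinearMap.baseChange R) :=
    lTensor_exact R hex Ideal.Quotient.mk_surjective
  have hsurjR : Function.Surjective ((Ideal.Quotient.mkₐ A (Ideal.span ({c} : Set B'))).toLinearMap.baseChange R) :=
    LinearMap.lTensor_surjective R Ideal.Quotient.mk_surjective
  have hinjR : Function.Injective (μ.baseChange R) := by
    have : Module.Free R (R ⊗[A] B') := hfreeB
    let ψ : R →ₐ[A] K := IsLocalization.liftAlgHom (M := Submonoid.powers f) (f := Algebra.ofId A K) (by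
      rintro ⟨_, n, rfl⟩
      exact IsUnit.mk0 _ fun hn ↦ pow_ne_zero n hf (IsFractionRing.injective A K (hn.trans (map_zero _).symm)))
    letI : Algebra R K := ψ.toRingHom.toAlgebra
    haveI : IsScalarTower A R K := .of_algebraMap_eq fun x ↦ (ψ.commutes x).symm
    have : IsFractionRing R K := IsFractionRing.isFractionRing_of_isDomain_of_isLocalization (Submonoid.powers f) R K
    let Φ : R ⊗[A] B' →ₐ[A] S := Algebra.TensorProduct.map ψ (AlgHom.id A B')
    have hΦ : Function.Injective Φ := by
      have h1 : Function.Injective ((Algebra.linearMap R K).rTensor (R ⊗[A] B')) :=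
        Module.Flat.rTensor_preserves_injective_linearMap _ (IsFractionRing.injective R K)
      let e := Algebra.TensorProduct.cancelBaseChange A R K K B'
      have h2 : ∀ w, Φ w = e ((Algebra.linearMap R K).rTensor (R ⊗[A] B') ((TensorProduct.lid R (R ⊗[A] B')).symm w)) := fun w ↦ by
        rw [TensorProduct.lid_symm_apply, LinearMap.rTensor_tmul, Algebra.linearMap_apply, map_one]
        induction w using TensorProduct.induction_on with
        | zero => rw [TensorProduct.tmul_zero, map_zero, map_zero]
        | tmul r x =>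
          rw [Algebra.TensorProduct.cancelBaseChange_tmul, Algebra.smul_def, mul_one]
          rfl
        | add x y hx hy => rw [map_add, TensorProduct.tmul_add, map_add, hx, hy]
      exact fun x y hxy ↦ (TensorProduct.lid R (R ⊗[A] B')).symm.injective (h1 (e.injective (by rw [← h2, ← h2, hxy])))
    have hcomm : ∀ w, Φ (μ.baseChange R w) = ι b * Φ w := fun w ↦ by
      induction w using TensorProduct.induction_on with
      | zero => simp
      | tmul r x =>
        show ψ r ⊗ₜ[A] (c * x) = ((1 : K) ⊗ₜ[A] c) * (ψ r ⊗ₜ[A] x)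
        rw [Algebra.TensorProduct.tmul_mul_tmul, one_mul]
      | add x y hx hy => rw [map_add, map_add, hx, hy, map_add, mul_add]
    rw [injective_iff_map_eq_zero]
    intro w hw
    exact hΦ ((hnzd _ (by rw [← hcomm, hw, map_zero])).trans (map_zero Φ).symm)
  have : Module.Free R (R ⊗[A] (B' ⧸ Ideal.span ({c} : Set B'))) := hfreeM
  have hk := GeomRedSpread.lTensor_injective_of_projective hinjR hexR hsurjR k
  let e := Algebra.TensorProduct.cancelBaseChange A R k k B'
  have hmul : ∀ z : k ⊗[A] B', e ((μ.baseChange R).lTensor k (e.symm z)) = ((1 : k) ⊗ₜ[A] c) * z := by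
    intro z
    induction z using TensorProduct.induction_on with
    | zero => simp
    | tmul s x =>
      rw [Algebra.TensorProduct.cancelBaseChange_symm_tmul, LinearMap.lTensor_tmul, LinearMap.baseChange_tmul,
        Algebra.TensorProduct.cancelBaseChange_tmul, one_smul, Algebra.TensorProduct.tmul_mul_tmul, one_mul]
      rfl
    | add x y hx hy => simp only [map_add, hx, hy, mul_add]
  -- the prime over the point is minimal in its fibre
  have hker : RingHom.ker π ≤ q.asIdeal := by rw [Ideal.mk_ker, nilradical_eq_sInf]; exact sInf_le q.2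
  have hq₁ : (q.asIdeal.map π).IsPrime := Ideal.map_isPrime_of_surjective Ideal.Quotient.mk_surjective hker
  have hcm : (q.asIdeal.map π).comap π = q.asIdeal := by
    rw [Ideal.comap_map_of_surjective π Ideal.Quotient.mk_surjective, ← RingHom.ker_eq_comap_bot]
    exact sup_eq_left.mpr hker
  obtain ⟨P, hP, hPq⟩ := exists_prime_over (A := A) (B := B') (k := k) (q.asIdeal.map π) (by
    rw [IsScalarTower.algebraMap_eq A B B', ← Ideal.comap_comap, show (algebraMap B B' : B →+* B') = π from rfl, hcm]
    ext x
    exact Ideal.algebraMap_residueField_eq_zero.symm)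
  obtain ⟨P₀, hP₀, hP₀P⟩ := Ideal.exists_minimalPrimes_le (I := ⊥) (J := P) bot_le
  have : P₀.IsPrime := hP₀.1.1
  let q₀ : PrimeSpectrum B := ⟨(P₀.comap (algebraMap B' (B' ⊗[A] k))).comap π, inferInstance⟩
  have hq₀le : q₀.asIdeal ≤ q.asIdeal := by
    rw [← hcm, ← hPq]
    exact Ideal.comap_mono (Ideal.comap_mono hP₀P)
  have hq₀t : q₀.asIdeal.comap (algebraMap A B) = t := by
    refine le_antisymm (Ideal.comap_mono hq₀le) fun x hx ↦ ?_
    show algebraMap B' (B' ⊗[A] k) (π (algebraMap A B x)) ∈ P₀
    rw [show π (algebraMap A B x) = algebraMap A B' x from rfl, ← IsScalarTower.algebraMap_apply, algebraMap_tensor_eq,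
      show algebraMap A k x = 0 from Ideal.algebraMap_residueField_eq_zero.mpr hx, TensorProduct.tmul_zero]
    exact P₀.zero_mem
  have hmem : c ⊗ₜ[A] (1 : k) ∈ P₀ := by
    have h1 : b ∈ q₀.asIdeal := (hqmin q₀ hq₀le hq₀t) ▸ hJq hbJ
    exact h1
  -- but minimal primes consist of zero divisors
  refine Set.disjoint_left.mp (Ideal.disjoint_nonZeroDivisors_of_mem_minimalPrimes hP₀) hmem
    (mem_nonZeroDivisors_iff_left.mpr fun z hz ↦ ?_)
  let γ := Algebra.TensorProduct.comm A B' k
  have hz' : ((1 : k) ⊗ₜ[A] c) * γ z = 0 := by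
    rw [show (1 : k) ⊗ₜ[A] c = γ (c ⊗ₜ[A] (1 : k)) from rfl, ← map_mul, hz, map_zero]
  rw [← hmul, map_eq_zero_iff _ e.injective, map_eq_zero_iff _ hk, map_eq_zero_iff _ e.symm.injective] at hz'
  exact (map_eq_zero_iff _ γ.injective).mp hz'

end Groth.Agent.GeomFib
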