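import Groth.Agent.GeomFib.NowhereDense

/-!
# Nowhere density in the fibres near a point: schemes
-/

set_option autoImplicit false

universe u

open CategoryTheory AlgebraicGeometry Limits TopologicalSpace

namespace Groth.Agent.GeomFib

variable {X Y : Scheme.{u}} (f : X ⟶ Y)

/-- A point with no proper generalisation in its fibre. -/
def IsFibreMaximal (z : X) : Prop := ∀ z', z' ⤳ z → f z' = f z → z' = z

/-- A closed set without maximal points of a fibre is nowhere dense in it. -/
theorem isNowhereDense_preimage_fiberι (Z : Set X) (hZ : IsClosed Z) (y : Y)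
    (h : ∀ z ∈ Z, f z = y → ¬ IsFibreMaximal f z) : IsNowhereDense (f.fiberι y ⁻¹' Z) := by
  show interior (closure (f.fiberι y ⁻¹' Z)) = ∅
  rw [(hZ.preimage (f.fiberι y).continuous).closure_eq, Set.eq_empty_iff_forall_notMem]
  intro w hw
  have hι : ∀ v, f (f.fiberι y v) = y := fun v ↦ (f.range_fiberι y).le ⟨v, rfl⟩
  let C := irreducibleComponent w
  have hC : IsIrreducible C := isIrreducible_irreducibleComponent
  have hg := hC.isGenericPoint_genericPoint isClosed_irreducibleComponent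
  have hgw : hC.genericPoint ⤳ w := hg.specializes mem_irreducibleComponent
  refine h (f.fiberι y hC.genericPoint) (interior_subset (s := f.fiberι y ⁻¹' Z) (hgw.mem_open isOpen_interior hw)) (hι _) fun z' hz' hfz ↦ ?_
  obtain ⟨v, rfl⟩ := (f.range_fiberι y).ge (hfz.trans (hι _) : f z' = y)
  have hv : v ⤳ hC.genericPoint := (f.fiberι y).isEmbedding.isInducing.specializes_iff.mp hz'
  have hvC : v ∈ C := by
    have h1 := (irreducibleComponent_mem_irreducibleComponents w).2 (y := closure {v}) (isIrreducible_singleton.closure)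
      (by show C ⊆ _; rw [← hg.def]; exact closure_minimal (Set.singleton_subset_iff.mpr (specializes_iff_mem_closure.mp hv)) isClosed_closure)
    exact h1 (subset_closure rfl)
  exact congrArg _ (hv.antisymm (hg.specializes hvC)).eq

/-- A closed nowhere dense set in a fibre of finite type contains no maximal point of it. -/
theorem not_isFibreMaximal_of_isNowhereDense [LocallyOfFiniteType f] (Z : Set X) (hZ : IsClosed Z) (y : Y)
    (h : IsNowhereDense (f.fiberι y ⁻¹' Z)) (z : X) (hz : z ∈ Z) (hzy : f z = y) : ¬ IsFibreMaximal f z := by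
  intro hmax
  obtain ⟨w, rfl⟩ := (f.range_fiberι y).ge hzy
  have : LocallyOfFiniteType (f.fiberToSpecResidueField y) := MorphismProperty.pullback_snd _ _ ‹_›
  have : IsLocallyNoetherian (f.fiber y) := LocallyOfFiniteType.isLocallyNoetherian (f.fiberToSpecResidueField y)
  obtain ⟨W, hW, hwW, -⟩ := exists_isAffineOpen_mem_and_subset (X := f.fiber y) (U := ⊤) (x := w) trivial
  have : IsNoetherianRing Γ(f.fiber y, W) := IsLocallyNoetherian.component_noetherian ⟨W, hW⟩
  have hns : NoetherianSpace ↥(W : Set ↥(f.fiber y)) := noetherianSpace_of_isAffineOpen W hW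
  let w' : ↥(W : Set ↥(f.fiber y)) := ⟨w, hwW⟩
  have hfin : (irreducibleComponents ↥(W : Set ↥(f.fiber y))).Finite := NoetherianSpace.finite_irreducibleComponents
  let others : Set ↥(W : Set ↥(f.fiber y)) := ⋃ D ∈ irreducibleComponents _ \ {irreducibleComponent w'}, D
  obtain ⟨O, hO, hne, hOsub⟩ : ∃ O : Set ↥(W : Set ↥(f.fiber y)), IsOpen O ∧ O.Nonempty ∧ O ⊆ irreducibleComponent w' := by
    refine ⟨othersᶜ, (Set.Finite.isClosed_biUnion hfin.sdiff fun D hD ↦ isClosed_of_mem_irreducibleComponents _ hD.1).isOpen_compl,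
      ?_, fun v hv ↦ ?_⟩
    · by_contra hne
      rw [Set.not_nonempty_iff_eq_empty, Set.compl_empty_iff] at hne
      classical
      obtain ⟨D, hD, hle⟩ := (isIrreducible_iff_sUnion_isClosed.mp (isIrreducible_irreducibleComponent (x := w')))
        (hfin.sdiff (t := {irreducibleComponent w'})).toFinset
        (fun D hD ↦ isClosed_of_mem_irreducibleComponents _ ((Set.Finite.mem_toFinset _).mp hD).1)
        (fun v _ ↦ by
          rw [Set.Finite.coe_toFinset]
          obtain ⟨D, hD, hvD⟩ := Set.mem_iUnion₂.mp (hne.ge (Set.mem_univ v))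
          exact ⟨D, hD, hvD⟩)
      obtain ⟨hD1, hD2⟩ := (Set.Finite.mem_toFinset _).mp hD
      exact hD2 (((irreducibleComponent_mem_irreducibleComponents w').2 hD1.1 hle).antisymm hle)
    · by_contra hv'
      refine hv (Set.mem_biUnion (x := irreducibleComponent v) ⟨irreducibleComponent_mem_irreducibleComponents v, fun he ↦ hv' ?_⟩ mem_irreducibleComponent)
      rw [← Set.mem_singleton_iff.mp he]
      exact mem_irreducibleComponent
  have hcl : irreducibleComponent w' ⊆ closure {w'} := by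
    intro v hv
    have hirr : IsIrreducible (Subtype.val '' irreducibleComponent w') :=
      isIrreducible_irreducibleComponent.image _ continuous_subtype_val.continuousOn
    have hgen := hirr.isGenericPoint_genericPoint_closure
    have hsp : hirr.genericPoint ⤳ w := hgen.specializes (subset_closure ⟨w', mem_irreducibleComponent, rfl⟩)
    have heq : f.fiberι y hirr.genericPoint = f.fiberι y w := hmax _ (hsp.map (f.fiberι y).continuous)
      (((f.range_fiberι y).le ⟨_, rfl⟩ : f (f.fiberι y hirr.genericPoint) = y).trans hzy.symm)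
    rw [(f.fiberι y).isEmbedding.injective heq] at hgen
    exact specializes_iff_mem_closure.mp (Topology.IsInducing.subtypeVal.specializes_iff.mp
      (hgen.specializes (subset_closure ⟨v, hv, rfl⟩)))
  have hint : Subtype.val '' O ⊆ interior (closure (f.fiberι y ⁻¹' Z)) := by
    refine interior_maximal ?_ (W.2.isOpenEmbedding_subtypeVal.isOpenMap _ hO)
    rintro _ ⟨v, hv, rfl⟩
    refine subset_closure ?_
    exact ((specializes_iff_mem_closure.mpr (hcl (hOsub hv))).map continuous_subtype_val).mem_closed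
      (hZ.preimage (f.fiberι y).continuous) hz
  rw [show interior (closure (f.fiberι y ⁻¹' Z)) = ∅ from h] at hint
  obtain ⟨v, hv⟩ := hne
  exact hint ⟨v, hv, rfl⟩

/-- Nowhere density of a closed set in a fibre holds near the point on its closure. -/
theorem exists_open_isNowhereDense [LocallyOfFiniteType f] [QuasiCompact f] (y : Y) (Z : Set X) (hZ : IsClosed Z)
    (h : IsNowhereDense (f.fiberι y ⁻¹' Z)) :
    ∃ O : Y.Opens, y ∈ O ∧ ∀ y' ∈ O, y ⤳ y' → IsNowhereDense (f.fiberι y' ⁻¹' Z) := by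
  classical
  obtain ⟨V, hV, hyV, -⟩ := exists_isAffineOpen_mem_and_subset (X := Y) (U := ⊤) (x := y) trivial
  have hc : IsCompact ((f ⁻¹ᵁ V : X.Opens) : Set X) :=
    QuasiCompact.isCompact_preimage (f := f) (V : Set Y) V.2 hV.isCompact
  obtain ⟨s, hs⟩ := hc.elim_finite_subcover
    (fun W : {W : X.affineOpens // (W : X.Opens) ≤ f ⁻¹ᵁ V} ↦ ((W.1 : X.Opens) : Set X)) (fun W ↦ (W.1 : X.Opens).2)
    (fun x hx ↦ by
      obtain ⟨_, ⟨W, hW, rfl⟩, hxW, hWsub⟩ := X.isBasis_affineOpens.exists_subset_of_mem_open hx (f ⁻¹ᵁ V).2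
      exact Set.mem_iUnion.mpr ⟨⟨⟨W, hW⟩, hWsub⟩, hxW⟩)
  -- one chart
  have key : ∀ W : {W : X.affineOpens // (W : X.Opens) ≤ f ⁻¹ᵁ V}, ∃ O : Y.Opens, y ∈ O ∧ ∀ y' ∈ O, y ⤳ y' →
      ∀ z ∈ Z, z ∈ (W.1 : X.Opens) → f z = y' → ¬ IsFibreMaximal f z := by
    rintro ⟨⟨W, hW⟩, hWV⟩
    let Γ₀ := Γ(Y, V)
    obtain ⟨p, hp⟩ : ∃ p : PrimeSpectrum Γ₀, hV.fromSpec p = y :=
      ⟨hV.primeIdealOf ⟨y, hyV⟩, hV.fromSpec_primeIdealOf ⟨y, hyV⟩⟩
    let A := Γ₀ ⧸ p.asIdeal
    let φ := f.appLE V W hWV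
    let I := p.asIdeal.map φ.hom
    let B := Γ(X, W) ⧸ I
    let ψ : A →+* B := Ideal.quotientMap I φ.hom Ideal.le_comap_map
    let _ : Algebra A B := ψ.toAlgebra
    have hft : φ.hom.FiniteType := f.finiteType_appLE hV hW hWV
    have hψcomp : ψ.comp (Ideal.Quotient.mk p.asIdeal) = (Ideal.Quotient.mk I).comp φ.hom :=
      RingHom.ext fun _ ↦ rfl
    have : Algebra.FiniteType A B := by
      have h1 : (ψ.comp (Ideal.Quotient.mk p.asIdeal)).FiniteType := by
        rw [hψcomp]
        exact (RingHom.FiniteType.of_surjective _ Ideal.Quotient.mk_surjective).comp hft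
      exact RingHom.FiniteType.of_comp_finiteType h1
    let ιB : PrimeSpectrum B → X := fun q ↦ hW.fromSpec (PrimeSpectrum.comap (Ideal.Quotient.mk I) q)
    have hιsp : ∀ q q' : PrimeSpectrum B, ιB q' ⤳ ιB q ↔ q'.asIdeal ≤ q.asIdeal := fun q q' ↦
      (hW.fromSpec.isOpenEmbedding.isInducing.specializes_iff.trans
        ((PrimeSpectrum.le_iff_specializes _ _).symm)).trans
        (Ideal.comap_le_comap_iff_of_surjective _ Ideal.Quotient.mk_surjective _ _)
    have hιinj : Function.Injective ιB := hW.fromSpec.isOpenEmbedding.injective.comp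
      (PrimeSpectrum.comap_injective_of_surjective _ Ideal.Quotient.mk_surjective)
    have hfι : ∀ q, f (ιB q) = hV.fromSpec (PrimeSpectrum.comap (Ideal.Quotient.mk p.asIdeal) (PrimeSpectrum.comap ψ q)) := by
      intro q
      show f (hW.fromSpec _) = _
      rw [← PrimeSpectrum.comap_comp_apply, hψcomp, PrimeSpectrum.comap_comp_apply, ← Scheme.Hom.comp_apply,
        ← hV.SpecMap_appLE_fromSpec f hW hWV, Scheme.Hom.comp_apply]
      rfl
    have hcinj : Function.Injective fun t ↦ hV.fromSpec (PrimeSpectrum.comap (Ideal.Quotient.mk p.asIdeal) t) :=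
      hV.fromSpec.isOpenEmbedding.injective.comp
        (PrimeSpectrum.comap_injective_of_surjective _ Ideal.Quotient.mk_surjective)
    have hlift : ∀ z, z ∈ W → y ⤳ f z → ∃ q : PrimeSpectrum B, ιB q = z := by
      intro z hzW hsp
      obtain ⟨P, rfl⟩ := hW.range_fromSpec.ge hzW
      have h2 : f (hW.fromSpec P) = hV.fromSpec (PrimeSpectrum.comap φ.hom P) := by
        rw [← Scheme.Hom.comp_apply, ← hV.SpecMap_appLE_fromSpec f hW hWV, Scheme.Hom.comp_apply]
        rfl
      rw [← hp, h2] at hsp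
      have hle : p.asIdeal ≤ (PrimeSpectrum.comap φ.hom P).asIdeal :=
        (PrimeSpectrum.le_iff_specializes p _).mpr (hV.fromSpec.isOpenEmbedding.isInducing.specializes_iff.mp hsp)
      have hP : P ∈ Set.range (PrimeSpectrum.comap (Ideal.Quotient.mk I)) := by
        rw [range_comap_of_surjective _ _ Ideal.Quotient.mk_surjective, Ideal.mk_ker]
        exact Ideal.map_le_iff_le_comap.mpr hle
      obtain ⟨q, rfl⟩ := hP
      exact ⟨q, rfl⟩
    let J : Ideal B := PrimeSpectrum.vanishingIdeal (ιB ⁻¹' Z)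
    have hJ : ∀ q, J ≤ q.asIdeal ↔ ιB q ∈ Z := fun q ↦ by
      have hcl : IsClosed (ιB ⁻¹' Z) := hZ.preimage (hW.fromSpec.continuous.comp (PrimeSpectrum.continuous_comap _))
      show q ∈ PrimeSpectrum.zeroLocus (J : Set B) ↔ _
      rw [PrimeSpectrum.zeroLocus_vanishingIdeal_eq_closure, hcl.closure_eq, Set.mem_preimage]
    obtain ⟨a, ha, hk⟩ := exists_forall_not_le_minimal (A := A) J (fun q hq hmin hJq ↦ by
      have hqy : f (ιB q) = y := by
        rw [hfι, ← hp]
        congr 1
        exact PrimeSpectrum.ext (show ((q.asIdeal.comap ψ)).comap (Ideal.Quotient.mk p.asIdeal) = p.asIdeal by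
          rw [show q.asIdeal.comap ψ = ⊥ from hq, ← RingHom.ker_eq_comap_bot, Ideal.mk_ker])
      refine not_isFibreMaximal_of_isNowhereDense f Z hZ y h _ ((hJ q).mp hJq) hqy fun z' hz' hfz ↦ ?_
      obtain ⟨q', rfl⟩ := hlift z' (hz'.mem_open W.2 (hW.range_fromSpec.le ⟨_, rfl⟩)) (by rw [hfz, hqy])
      rw [hmin q' ((hιsp q q').mp hz') ?_]
      rw [← show q.asIdeal.comap ψ = ⊥ from hq]
      rw [hfι, hfι] at hfz
      exact congrArg PrimeSpectrum.asIdeal (hcinj hfz))
    obtain ⟨r, rfl⟩ := Ideal.Quotient.mk_surjective a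
    refine ⟨hV.fromSpec ''ᵁ (PrimeSpectrum.basicOpen r : (Spec Γ₀).Opens),
      ⟨p, fun h ↦ ha (Ideal.Quotient.eq_zero_iff_mem.mpr h), hp⟩, fun y' hy' hsp z hzZ hzW hzy hmax ↦ ?_⟩
    obtain ⟨q, rfl⟩ := hlift z hzW (hzy ▸ hsp)
    obtain ⟨t, ht, htz⟩ := hy'
    refine hk q (fun h0 ↦ ?_) (fun q' hle heq ↦ hιinj (hmax _ ((hιsp q q').mpr hle) ?_)) ((hJ q).mpr hzZ)
    · rw [← hzy, hfι] at htz
      obtain rfl := hV.fromSpec.isOpenEmbedding.injective htz
      exact ht h0
    · rw [hfι, hfι]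
      congr 2
      exact PrimeSpectrum.ext heq
  choose O hO hk using key
  refine ⟨V ⊓ s.inf O, ⟨hyV, ?_⟩, fun y' hy' hsp ↦ isNowhereDense_preimage_fiberι f Z hZ y' fun z hz hzy ↦ ?_⟩
  · rw [Opens.coe_finset_inf, Finset.inf_eq_iInf]
    simp only [Function.comp_apply, Set.iInf_eq_iInter, Set.mem_iInter]
    exact fun W _ ↦ hO W
  · obtain ⟨W, hWs, hzW⟩ := Set.mem_iUnion₂.mp (hs (show f z ∈ V from hzy ▸ hy'.1))
    exact hk W y' ((Finset.inf_le hWs : s.inf O ≤ O W) hy'.2) hsp z hz hzW hzy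

end Groth.Agent.GeomFib
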