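import Groth.Agent.GeomFib.RingSpread

/-!
# Geometric fibres of a scheme over a domain: affine pieces and spreading
-/

set_option autoImplicit false
set_option linter.style.haveILetI false
set_option linter.unusedSectionVars false

universe u

open CategoryTheory AlgebraicGeometry Limits TopologicalSpace TensorProduct

namespace Groth.Agent.GeomFib

variable {A : Type u} [CommRing A] {X : Scheme.{u}} (f : X ⟶ Spec (CommRingCat.of A))

/-- The projection to `X` of its base change along `A → k`. -/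
noncomputable abbrev prj (k : Type u) [CommRing k] [Algebra A k] :
    pullback f (Spec.map (CommRingCat.ofHom (algebraMap A k))) ⟶ X :=
  pullback.fst f (Spec.map (CommRingCat.ofHom (algebraMap A k)))

/-- The kernel of `A → k`, as a point of the spectrum of `A`. -/
def pt (k : Type u) [Field k] [Algebra A k] : ↥(Spec (CommRingCat.of A)) :=
  ⟨RingHom.ker (algebraMap A k), RingHom.ker_isPrime _⟩

theorem range_SpecMap_field (k : Type u) [Field k] [Algebra A k] :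
    Set.range (Spec.map (CommRingCat.ofHom (algebraMap A k))) = {pt (A := A) k} := by
  have h : ∀ s : PrimeSpectrum k, Spec.map (CommRingCat.ofHom (algebraMap A k)) s = pt (A := A) k := fun s ↦
    PrimeSpectrum.ext (by
      show Ideal.comap (algebraMap A k) s.asIdeal = RingHom.ker (algebraMap A k)
      rw [(Ideal.eq_bot_or_top s.asIdeal).resolve_right s.2.ne_top, RingHom.ker_eq_comap_bot])
  exact Set.eq_singleton_iff_unique_mem.mpr
    ⟨⟨IsLocalRing.closedPoint k, h _⟩, by rintro _ ⟨s, rfl⟩; exact h s⟩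

theorem range_prj (k : Type u) [Field k] [Algebra A k] :
    Set.range (prj f k) = f ⁻¹' {pt (A := A) k} := by
  rw [Scheme.Pullback.range_fst, range_SpecMap_field]

theorem nonempty_preimage_iff (k : Type u) [Field k] [Algebra A k] (S : Set X) :
    ((prj f k) ⁻¹' S).Nonempty ↔ ∃ z ∈ S, f z = pt (A := A) k := by
  constructor
  · rintro ⟨w, hw⟩
    exact ⟨_, hw, (range_prj f k).le ⟨w, rfl⟩⟩
  · rintro ⟨z, hz, hzk⟩
    obtain ⟨w, rfl⟩ := (range_prj f k).ge hzk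
    exact ⟨w, hz⟩

theorem pt_eq_bot [IsDomain A] (k : Type u) [Field k] [Algebra A k]
    (h : Function.Injective (algebraMap A k)) :
    pt (A := A) k = (⟨⊥, Ideal.isPrime_bot⟩ : PrimeSpectrum A) :=
  PrimeSpectrum.ext ((RingHom.injective_iff_ker_eq_bot _).mp h)

theorem mem_basicOpen_pt_iff (k : Type u) [Field k] [Algebra A k] (a : A) :
    pt (A := A) k ∈ PrimeSpectrum.basicOpen a ↔ algebraMap A k a ≠ 0 := Iff.rfl

/-- The trace of an open set on an irreducible set is irreducible. -/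
theorem isIrreducible_inter_open {α : Type*} [TopologicalSpace α] {S U : Set α} (hS : IsIrreducible S)
    (hU : IsOpen U) (hne : (S ∩ U).Nonempty) : IsIrreducible (S ∩ U) := by
  refine ⟨hne, fun V₁ V₂ h₁ h₂ ⟨a, ⟨haS, haU⟩, ha⟩ ⟨b, ⟨hbS, hbU⟩, hb⟩ ↦ ?_⟩
  obtain ⟨c, hcS, ⟨hcU, hc₁⟩, -, hc₂⟩ := hS.2 (U ∩ V₁) (U ∩ V₂) (hU.inter h₁) (hU.inter h₂)
    ⟨a, haS, haU, ha⟩ ⟨b, hbS, hbU, hb⟩
  exact ⟨c, ⟨hcS, hcU⟩, hc₁, hc₂⟩

/-- An embedding with irreducible range has irreducible source. -/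
theorem irreducibleSpace_of_range {α β : Type*} [TopologicalSpace α] [TopologicalSpace β] {j : α → β}
    (hj : Topology.IsEmbedding j) (h : IsIrreducible (Set.range j)) : IrreducibleSpace α := by
  have := Subtype.irreducibleSpace h
  exact Function.Surjective.irreducibleSpace hj.toHomeomorph.symm.continuous hj.toHomeomorph.symm.surjective

/-- An affine piece of a closed set, with its base changes. -/
theorem exists_piece [LocallyOfFiniteType f] (W : X.Opens) (hW : IsAffineOpen W) (Z : Set X)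
    (hZ : IsClosed Z) :
    ∃ (B : Type u) (_ : CommRing B) (_ : Algebra A B) (_ : Algebra.FiniteType A B)
      (i : Spec (CommRingCat.of B) ⟶ X), IsImmersion i ∧
      i ≫ f = Spec.map (CommRingCat.ofHom (algebraMap A B)) ∧ Set.range i = Z ∩ W ∧
      ∀ (k : Type u) [CommRing k] [Algebra A k],
        ∃ j : Spec (CommRingCat.of (B ⊗[A] k)) ⟶ pullback f (Spec.map (CommRingCat.ofHom (algebraMap A k))),
          IsImmersion j ∧ Set.range j = (prj f k) ⁻¹' (Z ∩ W) := by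
  let φ : CommRingCat.of A ⟶ Γ(X, W) := Spec.preimage (hW.fromSpec ≫ f)
  have hφ : Spec.map φ = hW.fromSpec ≫ f := Spec.map_preimage _
  have hφft : φ.hom.FiniteType := (HasRingHomProperty.Spec_iff (P := @LocallyOfFiniteType)).mp
    (by rw [hφ]; infer_instance)
  let J : Ideal Γ(X, W) := PrimeSpectrum.vanishingIdeal (hW.fromSpec ⁻¹' Z)
  let m := Ideal.Quotient.mk J
  letI : Algebra A (Γ(X, W) ⧸ J) := (m.comp φ.hom).toAlgebra
  have hft : Algebra.FiniteType A (Γ(X, W) ⧸ J) :=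
    (RingHom.FiniteType.of_surjective m Ideal.Quotient.mk_surjective).comp hφft
  let i : Spec (CommRingCat.of (Γ(X, W) ⧸ J)) ⟶ X := Spec.map (CommRingCat.ofHom m) ≫ hW.fromSpec
  have : IsClosedImmersion (Spec.map (CommRingCat.ofHom m)) :=
    IsClosedImmersion.spec_of_surjective _ Ideal.Quotient.mk_surjective
  have hi : IsImmersion i := inferInstance
  have hif : i ≫ f = Spec.map (CommRingCat.ofHom (algebraMap A (Γ(X, W) ⧸ J))) := by
    rw [Category.assoc, ← hφ, ← Spec.map_comp]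
    rfl
  have hir : Set.range i = Z ∩ W := by
    have h1 : Set.range (Spec.map (CommRingCat.ofHom m)) = hW.fromSpec ⁻¹' Z := by
      refine (range_comap_of_surjective _ m Ideal.Quotient.mk_surjective).trans ?_
      rw [Ideal.mk_ker, PrimeSpectrum.zeroLocus_vanishingIdeal_eq_closure]
      exact (hZ.preimage hW.fromSpec.continuous).closure_eq
    rw [show Set.range i = hW.fromSpec '' Set.range (Spec.map (CommRingCat.ofHom m)) from
      Set.range_comp hW.fromSpec (Spec.map (CommRingCat.ofHom m)), h1, Set.image_preimage_eq_inter_range, hW.range_fromSpec]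
  refine ⟨Γ(X, W) ⧸ J, inferInstance, inferInstance, hft, i, hi, hif, hir, fun k _ _ ↦ ?_⟩
  let g := Spec.map (CommRingCat.ofHom (algebraMap A k))
  let q := pullback.map (Spec.map (CommRingCat.ofHom (algebraMap A (Γ(X, W) ⧸ J)))) g f g i (𝟙 _) (𝟙 _)
    (by rw [Category.comp_id, hif]) (by rw [Category.comp_id, Category.id_comp])
  have hq : IsImmersion q :=
    MorphismProperty.pullbackMap (P := @IsImmersion) hi inferInstance hif.symm (Category.id_comp g).symm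
  refine ⟨(pullbackSpecIso A (Γ(X, W) ⧸ J) k).inv ≫ q, inferInstance, ?_⟩
  rw [show Set.range ((pullbackSpecIso A (Γ(X, W) ⧸ J) k).inv ≫ q) = Set.range q from
    (pullbackSpecIso A (Γ(X, W) ⧸ J) k).inv.surjective.range_comp _,
    Scheme.Pullback.range_map, hir]
  simp [g]

variable [IsDomain A]

/-- The generic point of the base. -/
abbrev gpt : ↥(Spec (CommRingCat.of A)) := (⟨⊥, Ideal.isPrime_bot⟩ : PrimeSpectrum A)

/-- The trace on an open set of a closed set meeting the generic fibre meets all nearby fibres. -/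
theorem exists_forall_nonempty [LocallyOfFiniteType f] (Z : Set X) (hZ : IsClosed Z) (G : X.Opens)
    {z : X} (hzZ : z ∈ Z) (hzG : z ∈ G) (hz : f z = gpt) :
    ∃ a : A, a ≠ 0 ∧ ∀ t : PrimeSpectrum A, a ∉ t.asIdeal → ∃ z' ∈ Z, z' ∈ G ∧ f z' = t := by
  obtain ⟨_, ⟨W, hW, rfl⟩, hzW, hWG⟩ := X.isBasis_affineOpens.exists_subset_of_mem_open hzG G.2
  obtain ⟨B, _, _, _, i, -, hif, hir, -⟩ := exists_piece f W hW Z hZ
  obtain ⟨a, ha, -, hne⟩ := exists_flat_spread (A := A) (B := B)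
  obtain ⟨w, hw⟩ := hir.ge ⟨hzZ, hzW⟩
  have hwb : w.asIdeal.comap (algebraMap A B) = ⊥ := by
    have h1 : (i ≫ f) w = gpt := by rw [Scheme.Hom.comp_apply, hw, hz]
    rw [hif] at h1
    exact congrArg PrimeSpectrum.asIdeal h1
  refine ⟨a, ha, fun t ht ↦ ?_⟩
  have hk : algebraMap A t.asIdeal.ResidueField a ≠ 0 := fun h0 ↦
    ht (Ideal.algebraMap_residueField_eq_zero.mp h0)
  have := hne t.asIdeal.ResidueField hk ⟨w.asIdeal, w.2, hwb⟩
  obtain ⟨P⟩ := (PrimeSpectrum.nonempty_iff_nontrivial (R := B ⊗[A] t.asIdeal.ResidueField)).mpr this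
  let w' : ↥(Spec (CommRingCat.of B)) := P.comap (algebraMap B (B ⊗[A] t.asIdeal.ResidueField))
  have hzw : i w' ∈ Z ∩ W := hir.le ⟨w', rfl⟩
  refine ⟨i w', hzw.1, hWG hzw.2, ?_⟩
  rw [← Scheme.Hom.comp_apply, hif]
  refine PrimeSpectrum.ext (Ideal.ext fun c ↦ ?_)
  show algebraMap B (B ⊗[A] t.asIdeal.ResidueField) (algebraMap A B c) ∈ P.asIdeal ↔ c ∈ t.asIdeal
  rw [← IsScalarTower.algebraMap_apply, algebraMap_tensor_eq]
  refine ⟨fun h ↦ by_contra fun hc ↦ P.2.ne_top (Ideal.eq_top_of_isUnit_mem _ h ?_), fun h ↦ ?_⟩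
  · exact (Ne.isUnit fun h0 ↦ hc (Ideal.algebraMap_residueField_eq_zero.mp h0)).map
      (Algebra.TensorProduct.includeRight (R := A) (A := B) (B := t.asIdeal.ResidueField))
  · rw [Ideal.algebraMap_residueField_eq_zero.mpr h, TensorProduct.tmul_zero]
    exact zero_mem _

/-- Over a nonempty open of the base, the points of a closed set generalise to its generic fibre. -/
theorem exists_forall_generalization [LocallyOfFiniteType f] [QuasiCompact f] (Z : Set X)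
    (hZ : IsClosed Z) :
    ∃ a : A, a ≠ 0 ∧ ∀ z ∈ Z, a ∉ (f z : PrimeSpectrum A).asIdeal → ∃ z₀ ∈ Z, z₀ ⤳ z ∧ f z₀ = gpt := by
  classical
  have : CompactSpace X := QuasiCompact.compactSpace_of_compactSpace f
  obtain ⟨t, ht⟩ := isCompact_univ.elim_finite_subcover (fun W : X.affineOpens ↦ ((W : X.Opens) : Set X))
    (fun W ↦ (W : X.Opens).2) (fun x _ ↦ by
      obtain ⟨_, ⟨W, hW, rfl⟩, hxW, -⟩ := X.isBasis_affineOpens.exists_subset_of_mem_open
        (Set.mem_univ x) isOpen_univ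
      exact Set.mem_iUnion.mpr ⟨⟨W, hW⟩, hxW⟩)
  have key : ∀ W : X.affineOpens, ∃ a : A, a ≠ 0 ∧ ∀ z ∈ Z, z ∈ (W : X.Opens) →
      a ∉ (f z : PrimeSpectrum A).asIdeal → ∃ z₀ ∈ Z, z₀ ⤳ z ∧ f z₀ = gpt := by
    intro W
    obtain ⟨B, _, _, _, i, -, hif, hir, -⟩ := exists_piece f W W.2 Z hZ
    obtain ⟨a, ha, hgd, -⟩ := exists_flat_spread (A := A) (B := B)
    refine ⟨a, ha, fun z hzZ hzW hza ↦ ?_⟩
    obtain ⟨w, rfl⟩ := hir.ge ⟨hzZ, hzW⟩
    obtain ⟨p', hp', hle, hbot⟩ := hgd w.asIdeal w.2 fun h0 ↦ hza (by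
      rw [← Scheme.Hom.comp_apply, hif]; exact h0)
    let w₀ : ↥(Spec (CommRingCat.of B)) := (⟨p', hp'⟩ : PrimeSpectrum B)
    refine ⟨i w₀, (hir.le ⟨w₀, rfl⟩).1,
      Specializes.map ((PrimeSpectrum.le_iff_specializes (⟨p', hp'⟩ : PrimeSpectrum B) w).mp hle) i.continuous, ?_⟩
    rw [← Scheme.Hom.comp_apply, hif]
    exact PrimeSpectrum.ext hbot
  choose a ha hgen using key
  refine ⟨∏ W ∈ t, a W, Finset.prod_ne_zero_iff.mpr fun W _ ↦ ha W, fun z hz hza ↦ ?_⟩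
  obtain ⟨W, hW, hzW⟩ := Set.mem_iUnion₂.mp (ht (Set.mem_univ z))
  exact hgen W z hz hzW fun h0 ↦ hza (Ideal.mem_of_dvd _ (Finset.dvd_prod_of_mem _ hW) h0)

/-- A set covered by opens with irreducible traces that pairwise meet is irreducible. -/
theorem isIrreducible_of_cover {α ι : Type*} [TopologicalSpace α] {S : Set α} (s : Finset ι)
    (O : ι → Set α) (hO : ∀ i ∈ s, IsOpen (O i)) (hcov : S ⊆ ⋃ i ∈ s, O i) (hne : S.Nonempty)
    (hirr : ∀ i ∈ s, IsIrreducible (S ∩ O i))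
    (hmeet : ∀ i ∈ s, ∀ j ∈ s, (S ∩ (O i ∩ O j)).Nonempty) : IsIrreducible S := by
  refine ⟨hne, fun U V hU hV ⟨a, haS, haU⟩ ⟨b, hbS, hbV⟩ ↦ ?_⟩
  obtain ⟨i, hi, hai⟩ := Set.mem_iUnion₂.mp (hcov haS)
  obtain ⟨j, hj, hbj⟩ := Set.mem_iUnion₂.mp (hcov hbS)
  obtain ⟨c, ⟨hcS, -⟩, hcU, hcj⟩ := (hirr i hi).2 U (O j) hU (hO j hj) ⟨a, ⟨haS, hai⟩, haU⟩ (by
    obtain ⟨m, hm, hmi, hmj⟩ := hmeet i hi j hj
    exact ⟨m, ⟨hm, hmi⟩, hmj⟩)
  obtain ⟨d, ⟨hdS, -⟩, hdU, hdV⟩ := (hirr j hj).2 U V hU hV ⟨c, ⟨hcS, hcj⟩, hcU⟩ ⟨b, ⟨hbS, hbj⟩, hbV⟩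
  exact ⟨d, hdS, hdU, hdV⟩

/-- Irreducibility of the geometric generic fibre of a closed set spreads out. -/
theorem exists_forall_isIrreducible [LocallyOfFiniteType f] [QuasiCompact f] (Z : Set X)
    (hZ : IsClosed Z) {Ω : Type u} [Field Ω] [IsAlgClosed Ω] [Algebra A Ω]
    (hΩinj : Function.Injective (algebraMap A Ω)) (hirr : IsIrreducible ((prj f Ω) ⁻¹' Z)) :
    ∃ a : A, a ≠ 0 ∧ ∀ (k : Type u) [Field k] [Algebra A k], algebraMap A k a ≠ 0 →
      IsIrreducible ((prj f k) ⁻¹' Z) := by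
  classical
  have : CompactSpace X := QuasiCompact.compactSpace_of_compactSpace f
  obtain ⟨t, ht⟩ := isCompact_univ.elim_finite_subcover (fun W : X.affineOpens ↦ ((W : X.Opens) : Set X))
    (fun W ↦ (W : X.Opens).2) (fun x _ ↦ by
      obtain ⟨_, ⟨W, hW, rfl⟩, hxW, -⟩ := X.isBasis_affineOpens.exists_subset_of_mem_open
        (Set.mem_univ x) isOpen_univ
      exact Set.mem_iUnion.mpr ⟨⟨W, hW⟩, hxW⟩)
  obtain ⟨a₀, ha₀, hgen⟩ := exists_forall_generalization f Z hZ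
  -- the pieces meeting the generic fibre
  let s : Finset X.affineOpens := t.filter fun W : X.affineOpens ↦ ((prj f Ω) ⁻¹' (Z ∩ ((W : X.Opens) : Set X))).Nonempty
  have key : ∀ W : X.affineOpens, ∃ a : A, a ≠ 0 ∧ (W ∈ s → ∀ (k : Type u) [Field k] [Algebra A k],
      algebraMap A k a ≠ 0 → IsIrreducible ((prj f k) ⁻¹' (Z ∩ ((W : X.Opens) : Set X)))) := by
    intro W
    by_cases hWs : W ∈ s
    swap
    · exact ⟨1, one_ne_zero, fun h ↦ absurd h hWs⟩
    obtain ⟨B, _, _, _, i, -, -, -, hj⟩ := exists_piece f W W.2 Z hZ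
    obtain ⟨j, hjimm, hjr⟩ := hj Ω
    have hWne := (Finset.mem_filter.mp hWs).2
    have hΩB : IrreducibleSpace (PrimeSpectrum (B ⊗[A] Ω)) := by
      have h1 : IsIrreducible ((prj f Ω) ⁻¹' (Z ∩ ((W : X.Opens) : Set X))) :=
        isIrreducible_inter_open hirr ((W : X.Opens).2.preimage (prj f Ω).continuous) hWne
      rw [← hjr] at h1
      exact irreducibleSpace_of_range j.isEmbedding h1
    obtain ⟨a, ha, hBk⟩ := exists_forall_irreducibleSpace_domain hΩinj hΩB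
    refine ⟨a, ha, fun _ k _ _ hk ↦ ?_⟩
    obtain ⟨jk, -, hjkr⟩ := hj k
    have h2 : IsIrreducible (Set.univ : Set (PrimeSpectrum (B ⊗[A] k))) :=
      (hBk k hk).isIrreducible_univ
    rw [← hjkr, ← Set.image_univ]
    exact h2.image _ jk.continuous.continuousOn
  choose a ha hirrk using key
  -- the pieces meet
  have key2 : ∀ p : X.affineOpens × X.affineOpens, ∃ b : A, b ≠ 0 ∧ (p.1 ∈ s → p.2 ∈ s →
      ∀ (k : Type u) [Field k] [Algebra A k], algebraMap A k b ≠ 0 →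
        ((prj f k) ⁻¹' Z ∩ ((prj f k) ⁻¹' ((p.1 : X.Opens) : Set X) ∩ (prj f k) ⁻¹' ((p.2 : X.Opens) : Set X))).Nonempty) := by
    intro p
    by_cases hp : p.1 ∈ s ∧ p.2 ∈ s
    swap
    · exact ⟨1, one_ne_zero, fun h h' ↦ absurd ⟨h, h'⟩ hp⟩
    obtain ⟨w₁, hw₁⟩ := (Finset.mem_filter.mp hp.1).2
    obtain ⟨w₂, hw₂⟩ := (Finset.mem_filter.mp hp.2).2
    obtain ⟨w, hwZ, hwU, hwV⟩ := hirr.2 _ _ ((p.1 : X.Opens).2.preimage (prj f Ω).continuous)
      ((p.2 : X.Opens).2.preimage (prj f Ω).continuous) ⟨w₁, hw₁.1, hw₁.2⟩ ⟨w₂, hw₂.1, hw₂.2⟩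
    obtain ⟨b, hb, hne⟩ := exists_forall_nonempty f Z hZ ((p.1 : X.Opens) ⊓ (p.2 : X.Opens)) hwZ
      ⟨hwU, hwV⟩ (((range_prj f Ω).le ⟨w, rfl⟩).trans (pt_eq_bot Ω hΩinj))
    refine ⟨b, hb, fun _ _ k _ _ hk ↦ ?_⟩
    obtain ⟨z, hzZ, hzG, hzk⟩ := hne (pt (A := A) k) hk
    obtain ⟨v, hv⟩ := (range_prj f k).ge hzk
    exact ⟨v, show prj f k v ∈ Z from hv ▸ hzZ, show prj f k v ∈ (p.1 : X.Opens) from hv ▸ hzG.1,
      show prj f k v ∈ (p.2 : X.Opens) from hv ▸ hzG.2⟩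
  choose b hb hmeet using key2
  have hs : s.Nonempty := by
    obtain ⟨w, hw⟩ := hirr.nonempty
    obtain ⟨W, hWt, hwW⟩ := Set.mem_iUnion₂.mp (ht (Set.mem_univ (prj f Ω w)))
    exact ⟨W, Finset.mem_filter.mpr ⟨hWt, w, hw, hwW⟩⟩
  refine ⟨a₀ * (∏ W ∈ s, a W) * ∏ p ∈ s ×ˢ s, b p, ?_, fun k _ _ hk ↦ ?_⟩
  · exact mul_ne_zero (mul_ne_zero ha₀ (Finset.prod_ne_zero_iff.mpr fun W _ ↦ ha W))
      (Finset.prod_ne_zero_iff.mpr fun p _ ↦ hb p)
  rw [map_mul, map_mul, mul_ne_zero_iff, mul_ne_zero_iff, map_prod, map_prod, Finset.prod_ne_zero_iff,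
    Finset.prod_ne_zero_iff] at hk
  obtain ⟨⟨hk₀, hk₁⟩, hk₂⟩ := hk
  obtain ⟨W₀, hW₀⟩ := hs
  refine isIrreducible_of_cover s (fun W ↦ (prj f k) ⁻¹' ((W : X.Opens) : Set X))
    (fun W _ ↦ (W : X.Opens).2.preimage (prj f k).continuous) ?_
    ((hirrk W₀ hW₀ k (hk₁ W₀ hW₀)).nonempty.mono (Set.preimage_mono Set.inter_subset_left))
    (fun W hW ↦ by rw [← Set.preimage_inter]; exact hirrk W hW k (hk₁ W hW))
    (fun W hW W' hW' ↦ hmeet (W, W') hW hW' k (hk₂ (W, W') (Finset.mem_product.mpr ⟨hW, hW'⟩)))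
  intro w hw
  obtain ⟨z₀, hz₀Z, hz₀, hz₀g⟩ := hgen _ hw (by
    rw [(range_prj f k).le ⟨w, rfl⟩]; exact hk₀)
  obtain ⟨W, hWt, hwW⟩ := Set.mem_iUnion₂.mp (ht (Set.mem_univ (prj f k w)))
  refine Set.mem_iUnion₂.mpr ⟨W, Finset.mem_filter.mpr ⟨hWt, ?_⟩, hwW⟩
  exact (nonempty_preimage_iff f Ω _).mpr ⟨z₀, ⟨hz₀Z, hz₀.mem_open (W : X.Opens).2 hwW⟩,
    hz₀g.trans (pt_eq_bot Ω hΩinj).symm⟩

end Groth.Agent.GeomFib
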